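import Mathlib
import Cfsg.Agent.LargeExtra.SixInst
import Cfsg.Agent.LargeExtra.Dickson
set_option linter.all false

-- part: LargeExtra/SiegFam/Lin
section
/-!
# Linear algebra over `F₂` for the Siegel families (helper73)

`V` finite, `b` a nondegenerate alternating form.  `pp b x = x^⊥`, `S^⊥ = b.orthogonal S`.
-/

set_option autoImplicit false

namespace Cfsg.Agent.LargeExtra.SiegFam.Lin

open Module

variable {V : Type*} [AddCommGroup V] [Module (ZMod 2) V]

theorem zm (c : ZMod 2) : c = 0 ∨ c = 1 := by revert c; decide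

theorem zm_ne {c : ZMod 2} (h : c ≠ 0) : c = 1 := by revert c; decide

theorem zadd (c : ZMod 2) : c + c = 0 := by revert c; decide

theorem one_add : (1 : ZMod 2) + 1 = 0 := by decide

theorem add_self (v : V) : v + v = 0 := by
  have : (2 : ZMod 2) • v = 0 := by rw [show (2 : ZMod 2) = 0 from rfl, zero_smul]
  rwa [two_smul] at this

theorem eq_of_add {v w : V} (h : v + w = 0) : v = w := by
  calc v = v + (w + w) := by rw [add_self, add_zero]
    _ = (v + w) + w := by rw [add_assoc]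
    _ = w := by rw [h, zero_add]

theorem add_add' (v w : V) : v + w + w = v := by rw [add_assoc, add_self, add_zero]

theorem mem_span_one {a v : V} : v ∈ Submodule.span (ZMod 2) ({a} : Set V) ↔ v = 0 ∨ v = a := by
  rw [Submodule.mem_span_singleton]
  constructor
  · rintro ⟨c, rfl⟩
    rcases zm c with rfl | rfl
    · left; rw [zero_smul]
    · right; rw [one_smul]
  · rintro (rfl | rfl)
    · exact ⟨0, zero_smul _ _⟩
    · exact ⟨1, one_smul _ _⟩

/-- nondegenerate alternating form on a finite space -/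
structure Alt (b : LinearMap.BilinForm (ZMod 2) V) : Prop where
  fin : Finite V
  nondeg : ∀ v, (∀ w, b v w = 0) → v = 0
  self : ∀ v, b v v = 0
  even : Even (finrank (ZMod 2) V)

/-- the perpendicular space of a vector -/
def pp (b : LinearMap.BilinForm (ZMod 2) V) (x : V) : Submodule (ZMod 2) V := LinearMap.ker (b x)

theorem mem_pp {b : LinearMap.BilinForm (ZMod 2) V} {x v : V} : v ∈ pp b x ↔ b x v = 0 := Iff.rfl

variable {b : LinearMap.BilinForm (ZMod 2) V}

theorem mem_orth {S : Submodule (ZMod 2) V} {v : V} : v ∈ b.orthogonal S ↔ ∀ s ∈ S, b s v = 0 :=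
  LinearMap.BilinForm.mem_orthogonal_iff

namespace Alt

theorem comm (A : Alt b) (v w : V) : b v w = b w v := by
  have h := A.self (v + w)
  rw [map_add b, LinearMap.add_apply, map_add, map_add, A.self, A.self, zero_add, add_zero] at h
  revert h
  generalize b v w = x, b w v = y
  revert x y; decide

theorem finDim (A : Alt b) : FiniteDimensional (ZMod 2) V := by
  have := A.fin
  exact Module.Finite.of_finite

theorem isRefl (A : Alt b) : b.IsRefl := fun v w h => by rw [A.comm]; exact h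

theorem nondegenerate (A : Alt b) : b.Nondegenerate :=
  ⟨fun v hv => A.nondeg v hv, fun v hv => A.nondeg v fun w => by rw [A.comm]; exact hv w⟩

theorem finrank_orth (A : Alt b) (S : Submodule (ZMod 2) V) :
    finrank (ZMod 2) S + finrank (ZMod 2) (b.orthogonal S) = finrank (ZMod 2) V := by
  have := A.finDim
  have h1 := LinearMap.BilinForm.finrank_orthogonal A.nondegenerate S
  have h2 : finrank (ZMod 2) S ≤ finrank (ZMod 2) V := Submodule.finrank_le S
  omega

theorem orth_orth (A : Alt b) (S : Submodule (ZMod 2) V) : b.orthogonal (b.orthogonal S) = S := by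
  have := A.finDim
  exact LinearMap.BilinForm.orthogonal_orthogonal A.nondegenerate A.isRefl S

theorem exists_ne (A : Alt b) {x : V} (hx : x ≠ 0) : ∃ v, b x v = 1 := by
  by_contra hcon
  push Not at hcon
  exact hx (A.nondeg x fun w => by
    rcases zm (b x w) with h | h
    · exact h
    · exact absurd h (hcon w))

theorem finrank_le_of_le (A : Alt b) {S T : Submodule (ZMod 2) V} (h : S ≤ T) :
    finrank (ZMod 2) S ≤ finrank (ZMod 2) T := by
  have := A.finDim
  exact Submodule.finrank_mono h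

theorem eq_of_le (A : Alt b) {S T : Submodule (ZMod 2) V} (h : S ≤ T)
    (h' : finrank (ZMod 2) T ≤ finrank (ZMod 2) S) : S = T := by
  have := A.finDim
  exact Submodule.eq_of_le_of_finrank_le h h'

/-- intersecting with `x^⊥` drops the dimension by at most one -/
theorem finrank_inf_pp (A : Alt b) (S : Submodule (ZMod 2) V) (x : V) :
    finrank (ZMod 2) S ≤ finrank (ZMod 2) (S ⊓ pp b x : Submodule (ZMod 2) V) + 1 := by
  have := A.finDim
  let f : S →ₗ[ZMod 2] ZMod 2 := (b x).domRestrict S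
  have h1 := LinearMap.finrank_range_add_finrank_ker f
  have h2 : finrank (ZMod 2) (LinearMap.range f) ≤ 1 := by
    have := Submodule.finrank_le (LinearMap.range f)
    rwa [finrank_self] at this
  have h3 : finrank (ZMod 2) (LinearMap.ker f) = finrank (ZMod 2) (S ⊓ pp b x : Submodule (ZMod 2) V) := by
    have e : (LinearMap.ker f).map S.subtype = S ⊓ pp b x := by
      ext v
      constructor
      · rintro ⟨s, hs, rfl⟩
        exact ⟨s.2, hs⟩
      · rintro ⟨h1, h2⟩
        exact ⟨⟨v, h1⟩, h2, rfl⟩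
    rw [← e, Submodule.finrank_map_subtype_eq]
  omega

/-- … and by exactly one when `S ⊄ x^⊥` -/
theorem finrank_inf_pp_lt (A : Alt b) {S : Submodule (ZMod 2) V} {x s : V} (hs : s ∈ S)
    (h : b x s ≠ 0) :
    finrank (ZMod 2) (S ⊓ pp b x : Submodule (ZMod 2) V) + 1 = finrank (ZMod 2) S := by
  have := A.finDim
  have h1 := A.finrank_inf_pp S x
  have h2 : S ⊓ pp b x < S := by
    refine lt_of_le_of_ne inf_le_left fun he => h ?_
    have : s ∈ S ⊓ pp b x := by rw [he]; exact hs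
    exact this.2
  have h3 := Submodule.finrank_lt_finrank_of_lt h2
  omega

theorem finrank_span_one (_A : Alt b) {a : V} (h : a ≠ 0) :
    finrank (ZMod 2) (Submodule.span (ZMod 2) ({a} : Set V)) = 1 := finrank_span_singleton h

theorem finrank_sup_inf (A : Alt b) (S T : Submodule (ZMod 2) V) :
    finrank (ZMod 2) (S ⊔ T : Submodule (ZMod 2) V) + finrank (ZMod 2) (S ⊓ T : Submodule (ZMod 2) V) =
      finrank (ZMod 2) S + finrank (ZMod 2) T := by
  have := A.finDim
  exact Submodule.finrank_sup_add_finrank_inf_eq S T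

/-- `dim (S + ⟨x⟩) = dim S + 1` for `x ∉ S` -/
theorem finrank_sup_one (A : Alt b) {S : Submodule (ZMod 2) V} {x : V} (h : x ∉ S) :
    finrank (ZMod 2) (S ⊔ Submodule.span (ZMod 2) {x} : Submodule (ZMod 2) V) = finrank (ZMod 2) S + 1 := by
  have hx : x ≠ 0 := fun h0 => h (h0 ▸ S.zero_mem)
  have h1 := A.finrank_sup_inf S (Submodule.span (ZMod 2) {x})
  have h2 : S ⊓ Submodule.span (ZMod 2) {x} = ⊥ := by
    rw [eq_bot_iff]
    rintro v ⟨hv1, hv2⟩
    rcases mem_span_one.1 hv2 with rfl | rfl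
    · exact Submodule.zero_mem _
    · exact absurd hv1 h
  rw [h2, finrank_bot, add_zero, A.finrank_span_one hx] at h1
  exact h1

theorem mem_sup_one {S : Submodule (ZMod 2) V} {x v : V} :
    v ∈ S ⊔ Submodule.span (ZMod 2) {x} ↔ v ∈ S ∨ v + x ∈ S := by
  rw [Submodule.mem_sup]
  constructor
  · rintro ⟨s, hs, t, ht, rfl⟩
    rcases mem_span_one.1 ht with rfl | rfl
    · left; rw [add_zero]; exact hs
    · right; rw [add_add']; exact hs
  · rintro (h | h)
    · exact ⟨v, h, 0, Submodule.zero_mem _, add_zero v⟩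
    · exact ⟨v + x, h, x, Submodule.mem_span_singleton_self x, add_add' v x⟩

/-- totally isotropic subspaces have dimension at most half -/
theorem two_mul_le (A : Alt b) {S : Submodule (ZMod 2) V} (h : ∀ v ∈ S, ∀ w ∈ S, b v w = 0) :
    2 * finrank (ZMod 2) S ≤ finrank (ZMod 2) V := by
  have h1 := A.finrank_orth S
  have h2 : S ≤ b.orthogonal S := fun v hv => mem_orth.2 fun s hs => h s hs v hv
  have h3 := A.finrank_le_of_le h2
  omega

/-- a maximal totally isotropic subspace is its own orthogonal -/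
theorem mem_of_perp (A : Alt b) {S : Submodule (ZMod 2) V} (h : ∀ v ∈ S, ∀ w ∈ S, b v w = 0)
    (hS : finrank (ZMod 2) V ≤ 2 * finrank (ZMod 2) S) {v : V} (hv : ∀ s ∈ S, b s v = 0) : v ∈ S := by
  have h1 := A.finrank_orth S
  have h2 : S ≤ b.orthogonal S := fun v hv => mem_orth.2 fun s hs => h s hs v hv
  have h3 : S = b.orthogonal S := A.eq_of_le h2 (by omega)
  rw [h3]
  exact mem_orth.2 hv

/-- orthogonal of a sup -/
theorem orth_sup (S T : Submodule (ZMod 2) V) :
    b.orthogonal (S ⊔ T) = b.orthogonal S ⊓ b.orthogonal T := by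
  ext v
  rw [Submodule.mem_inf, mem_orth, mem_orth, mem_orth]
  constructor
  · intro h
    exact ⟨fun s hs => h s (Submodule.mem_sup_left hs), fun t ht => h t (Submodule.mem_sup_right ht)⟩
  · rintro ⟨h1, h2⟩ x hx
    obtain ⟨s, hs, t, ht, rfl⟩ := Submodule.mem_sup.1 hx
    rw [map_add, LinearMap.add_apply, h1 s hs, h2 t ht, add_zero]

/-- if `T ∩ W^⊥ = 0` then `dim (W ∩ T^⊥) = dim W - dim T` -/
theorem finrank_inf_orth (A : Alt b) {W T : Submodule (ZMod 2) V}
    (h : ∀ t ∈ T, (∀ w ∈ W, b t w = 0) → t = 0) :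
    finrank (ZMod 2) (W ⊓ b.orthogonal T : Submodule (ZMod 2) V) + finrank (ZMod 2) T =
      finrank (ZMod 2) W := by
  have h1 := A.finrank_sup_inf (b.orthogonal W) T
  have h2 : b.orthogonal W ⊓ T = ⊥ := by
    rw [eq_bot_iff]
    rintro t ⟨ht1, ht2⟩
    rw [Submodule.mem_bot]
    exact h t ht2 fun w hw => by rw [A.comm]; exact mem_orth.1 ht1 w hw
  have h3 := A.finrank_orth (b.orthogonal W ⊔ T)
  rw [orth_sup, A.orth_orth] at h3
  have h4 := A.finrank_orth W
  rw [h2, finrank_bot] at h1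
  omega

/-- a space of dimension at least two contains a nonzero vector of `x^⊥` -/
theorem exists_mem_pp (A : Alt b) {S : Submodule (ZMod 2) V} (h : 2 ≤ finrank (ZMod 2) S) (x : V) :
    ∃ s ∈ S, s ≠ 0 ∧ b x s = 0 := by
  have h1 := A.finrank_inf_pp S x
  have h2 : S ⊓ pp b x ≠ ⊥ := by
    intro h0
    rw [h0, finrank_bot] at h1
    omega
  obtain ⟨s, hs, hs0⟩ := (Submodule.ne_bot_iff _).1 h2
  exact ⟨s, hs.1, hs0, hs.2⟩

/-- a space of dimension at least two has two distinct nonzero vectors -/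
theorem exists_two (A : Alt b) {S : Submodule (ZMod 2) V} (h : 2 ≤ finrank (ZMod 2) S) :
    ∃ s ∈ S, ∃ t ∈ S, s ≠ 0 ∧ t ≠ 0 ∧ s ≠ t := by
  have h2 : S ≠ ⊥ := by
    intro h0
    rw [h0, finrank_bot] at h
    omega
  obtain ⟨s, hs, hs0⟩ := (Submodule.ne_bot_iff _).1 h2
  have h3 : ¬ S ≤ Submodule.span (ZMod 2) {s} := by
    intro h4
    have := A.finrank_le_of_le h4
    rw [A.finrank_span_one hs0] at this
    omega
  obtain ⟨t, ht, ht'⟩ := Set.not_subset.1 h3
  refine ⟨s, hs, t, ht, hs0, ?_, ?_⟩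
  · intro h0
    apply ht'
    exact mem_span_one.2 (Or.inl h0)
  · intro h0
    apply ht'
    exact mem_span_one.2 (Or.inr h0.symm)

end Alt

end Cfsg.Agent.LargeExtra.SiegFam.Lin
end

-- part: LargeExtra/SiegFam/Basic
section
/-!
# Siegel families: the abstract situation (helper73)

`SFam q b H O D W`: `V` a quadratic space over `F₂`, `H` a group of isometries, `O` an `H`-orbit of nonzero
singular vectors, `D c` (totally singular) and `W c ≤ c^⊥` equivariant families of submodules with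
`dim D c + dim W c = dim V`, `D c ∩ (W c)^⊥ = ⟨c⟩`, such that all Siegel maps `sg c w`, `w ∈ W c`, are in `H`.
-/

set_option autoImplicit false

namespace Cfsg.Agent.LargeExtra.SiegFam

open Module Lin

variable {V : Type*} [AddCommGroup V] [Module (ZMod 2) V]

/-- The Siegel map. -/
def sg (q : V → ZMod 2) (b : LinearMap.BilinForm (ZMod 2) V) (c w v : V) : V :=
  v + b w v • c + b c v • w + (q w * b c v) • c

/-- The abstract Siegel family. -/
structure SFam (q : V → ZMod 2) (b : LinearMap.BilinForm (ZMod 2) V) (H : Subgroup (V ≃ₗ[ZMod 2] V))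
    (O : Set V) (D W : V → Submodule (ZMod 2) V) : Prop where
  alt : Alt b
  q_add : ∀ v w, q (v + w) = q v + q w + b v w
  q_H : ∀ h ∈ H, ∀ v, q (h v) = q v
  zero : ∀ c ∈ O, c ≠ 0
  stable : ∀ h ∈ H, ∀ c ∈ O, h c ∈ O
  trans : ∀ c ∈ O, ∀ c' ∈ O, ∃ h ∈ H, h c = c'
  self_D : ∀ c ∈ O, c ∈ D c
  q_D : ∀ c ∈ O, ∀ v ∈ D c, q v = 0
  self_W : ∀ c ∈ O, c ∈ W c
  perp_W : ∀ c ∈ O, ∀ v ∈ W c, b c v = 0
  D_map : ∀ h ∈ H, ∀ c ∈ O, ∀ v ∈ D c, h v ∈ D (h c)
  W_map : ∀ h ∈ H, ∀ c ∈ O, ∀ v ∈ W c, h v ∈ W (h c)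
  siegel : ∀ c ∈ O, ∀ w ∈ W c, ∃ h ∈ H, ∀ v, h v = sg q b c w v
  cap : ∀ c ∈ O, ∀ v ∈ D c, (∀ w ∈ W c, b v w = 0) → v = 0 ∨ v = c
  dim : ∀ c ∈ O, finrank (ZMod 2) (D c) + finrank (ZMod 2) (W c) = finrank (ZMod 2) V

variable {q : V → ZMod 2} {b : LinearMap.BilinForm (ZMod 2) V}

theorem sg_perp {c w v : V} (h : b c v = 0) : sg q b c w v = v + b w v • c := by
  rw [sg, h, zero_smul, add_zero, mul_zero, zero_smul, add_zero]

theorem sg_fix {c w v : V} (h : b c v = 0) (h' : b w v = 0) : sg q b c w v = v := by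
  rw [sg_perp h, h', zero_smul, add_zero]

theorem sg_one {c w v : V} (h : b c v = 1) : sg q b c w v = v + b w v • c + w + q w • c := by
  rw [sg, h, one_smul, mul_one]

namespace SFam

variable {H : Subgroup (V ≃ₗ[ZMod 2] V)} {O : Set V} {D W : V → Submodule (ZMod 2) V}

theorem comm (F : SFam q b H O D W) (v w : V) : b v w = b w v := F.alt.comm v w

theorem self (F : SFam q b H O D W) (v : V) : b v v = 0 := F.alt.self v

theorem q_zero (F : SFam q b H O D W) : q 0 = 0 := by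
  have h := F.q_add 0 0
  rw [add_zero, map_zero, add_zero, zadd] at h
  exact h

theorem b_eq (F : SFam q b H O D W) (v w : V) : b v w = q (v + w) + q v + q w := by
  rw [F.q_add]
  generalize q v = x, q w = y, b v w = z
  revert x y z; decide

theorem q_self (F : SFam q b H O D W) {c : V} (hc : c ∈ O) : q c = 0 := F.q_D c hc c (F.self_D c hc)

theorem b_H (F : SFam q b H O D W) {h : V ≃ₗ[ZMod 2] V} (hh : h ∈ H) (v w : V) :
    b (h v) (h w) = b v w := by
  rw [F.b_eq, F.b_eq, ← map_add, F.q_H h hh, F.q_H h hh, F.q_H h hh]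

theorem b_ts (F : SFam q b H O D W) {S : Submodule (ZMod 2) V} (hS : ∀ v ∈ S, q v = 0) {v w : V}
    (hv : v ∈ S) (hw : w ∈ S) : b v w = 0 := by
  rw [F.b_eq, hS _ (S.add_mem hv hw), hS v hv, hS w hw]; rfl

theorem b_D (F : SFam q b H O D W) {c : V} (hc : c ∈ O) {v w : V} (hv : v ∈ D c) (hw : w ∈ D c) :
    b v w = 0 := F.b_ts (F.q_D c hc) hv hw

theorem perp_D (F : SFam q b H O D W) {c : V} (hc : c ∈ O) {v : V} (hv : v ∈ D c) : b c v = 0 :=
  F.b_D hc (F.self_D c hc) hv

theorem inv_apply (h : V ≃ₗ[ZMod 2] V) (v : V) : h (h⁻¹ v) = v := h.apply_symm_apply v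

theorem apply_inv (h : V ≃ₗ[ZMod 2] V) (v : V) : h⁻¹ (h v) = v := h.symm_apply_apply v

theorem mem_D_iff (F : SFam q b H O D W) {h : V ≃ₗ[ZMod 2] V} (hh : h ∈ H) {c : V} (hc : c ∈ O) {v : V} :
    h v ∈ D (h c) ↔ v ∈ D c := by
  refine ⟨fun hv => ?_, F.D_map h hh c hc v⟩
  have := F.D_map h⁻¹ (H.inv_mem hh) (h c) (F.stable h hh c hc) _ hv
  rwa [apply_inv, apply_inv] at this

theorem mem_W_iff (F : SFam q b H O D W) {h : V ≃ₗ[ZMod 2] V} (hh : h ∈ H) {c : V} (hc : c ∈ O) {v : V} :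
    h v ∈ W (h c) ↔ v ∈ W c := by
  refine ⟨fun hv => ?_, F.W_map h hh c hc v⟩
  have := F.W_map h⁻¹ (H.inv_mem hh) (h c) (F.stable h hh c hc) _ hv
  rwa [apply_inv, apply_inv] at this

theorem finrank_D (F : SFam q b H O D W) {c c' : V} (hc : c ∈ O) (hc' : c' ∈ O) :
    finrank (ZMod 2) (D c) = finrank (ZMod 2) (D c') := by
  obtain ⟨h, hh, rfl⟩ := F.trans c hc c' hc'
  have e : D (h c) = (D c).map (h : V →ₗ[ZMod 2] V) := by
    ext v
    constructor
    · intro hv
      refine ⟨h⁻¹ v, ?_, inv_apply h v⟩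
      rw [SetLike.mem_coe, ← F.mem_D_iff hh hc, inv_apply]
      exact hv
    · rintro ⟨w, hw, rfl⟩
      exact F.D_map h hh c hc w hw
  rw [e]
  exact (LinearEquiv.finrank_map_eq h (D c)).symm

theorem finrank_W (F : SFam q b H O D W) {c c' : V} (hc : c ∈ O) (hc' : c' ∈ O) :
    finrank (ZMod 2) (W c) = finrank (ZMod 2) (W c') := by
  have h1 := F.dim c hc
  have h2 := F.dim c' hc'
  have h3 := F.finrank_D hc hc'
  omega

theorem two_mul_D (F : SFam q b H O D W) {c : V} (hc : c ∈ O) :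
    2 * finrank (ZMod 2) (D c) ≤ finrank (ZMod 2) V :=
  F.alt.two_mul_le fun _ hv _ hw => F.b_D hc hv hw

/-- the pairs -/
theorem sg_mem (F : SFam q b H O D W) {c w v : V} (hc : c ∈ O) (hw : w ∈ W c) (hv : v ∈ O) :
    sg q b c w v ∈ O := by
  obtain ⟨h, hh, e⟩ := F.siegel c hc w hw
  rw [← e]; exact F.stable h hh v hv

theorem sg_mem_D (F : SFam q b H O D W) {c w v x : V} (hc : c ∈ O) (hw : w ∈ W c) (hv : v ∈ O)
    (hx : x ∈ D v) : sg q b c w x ∈ D (sg q b c w v) := by
  obtain ⟨h, hh, e⟩ := F.siegel c hc w hw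
  rw [← e, ← e]; exact F.D_map h hh v hv x hx

theorem sg_mem_W (F : SFam q b H O D W) {c w v x : V} (hc : c ∈ O) (hw : w ∈ W c) (hv : v ∈ O)
    (hx : x ∈ W v) : sg q b c w x ∈ W (sg q b c w v) := by
  obtain ⟨h, hh, e⟩ := F.siegel c hc w hw
  rw [← e, ← e]; exact F.W_map h hh v hv x hx

theorem sg_b (F : SFam q b H O D W) {c w : V} (hc : c ∈ O) (hw : w ∈ W c) (x y : V) :
    b (sg q b c w x) (sg q b c w y) = b x y := by
  obtain ⟨h, hh, e⟩ := F.siegel c hc w hw
  rw [← e, ← e]; exact F.b_H hh x y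

/-- `dim (D a ∩ b^⊥) + 1 = dim D a` for a nonperpendicular pair -/
theorem finrank_T (F : SFam q b H O D W) {a c : V} (ha : a ∈ O) (hac : b c a = 1) :
    finrank (ZMod 2) (D a ⊓ pp b c : Submodule (ZMod 2) V) + 1 = finrank (ZMod 2) (D a) :=
  F.alt.finrank_inf_pp_lt (F.self_D a ha) (by rw [hac]; decide)

theorem finrank_Wc (F : SFam q b H O D W) {a c : V} (ha : a ∈ O) (hac : b c a = 1) :
    finrank (ZMod 2) (W a ⊓ pp b c : Submodule (ZMod 2) V) + 1 = finrank (ZMod 2) (W a) :=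
  F.alt.finrank_inf_pp_lt (F.self_W a ha) (by rw [hac]; decide)

/-- `T_a ∩ W_a^⊥ = 0` -/
theorem cap' (F : SFam q b H O D W) {a c : V} (ha : a ∈ O) (hac : b c a = 1) {t : V} (ht : t ∈ D a)
    (htc : b c t = 0) (h : ∀ w ∈ W a ⊓ pp b c, b t w = 0) : t = 0 := by
  have key : t = 0 ∨ t = a := by
    apply F.cap a ha t ht
    intro w hw
    have hta : b t a = 0 := by rw [F.comm]; exact F.perp_D ha ht
    rcases zm (b c w) with h1 | h1
    · exact h w ⟨hw, h1⟩
    · have h2 : w + a ∈ W a ⊓ pp b c := by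
        refine ⟨(W a).add_mem hw (F.self_W a ha), ?_⟩
        show b c (w + a) = 0
        rw [map_add, h1, hac]; decide
      have h3 := h _ h2
      rwa [map_add, hta, add_zero] at h3
  rcases key with h1 | h1
  · exact h1
  · rw [h1, hac] at htc
    exact absurd htc (by decide)

/-- `dim (W_a ∩ T_a^⊥) + dim T_a = dim W_a` -/
theorem finrank_P (F : SFam q b H O D W) {a c : V} (ha : a ∈ O) (hac : b c a = 1) :
    finrank (ZMod 2) ((W a ⊓ pp b c) ⊓ b.orthogonal (D a ⊓ pp b c) : Submodule (ZMod 2) V) +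
      finrank (ZMod 2) (D a ⊓ pp b c : Submodule (ZMod 2) V) =
      finrank (ZMod 2) (W a ⊓ pp b c : Submodule (ZMod 2) V) :=
  F.alt.finrank_inf_orth fun _ ht h => F.cap' ha hac ht.1 ht.2 h

end SFam

end Cfsg.Agent.LargeExtra.SiegFam
end

-- part: LargeExtra/SiegFam/CaseI
section
/-!
# Siegel families, case (i): a nonsingular common parameter of a nonperpendicular pair (helper73)
-/

set_option autoImplicit false

namespace Cfsg.Agent.LargeExtra.SiegFam

open Module Lin

namespace SFam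

variable {V : Type*} [AddCommGroup V] [Module (ZMod 2) V]
  {q : V → ZMod 2} {b : LinearMap.BilinForm (ZMod 2) V}
  {H : Subgroup (V ≃ₗ[ZMod 2] V)} {O : Set V} {D W : V → Submodule (ZMod 2) V}

/-- (P): for `w ∈ W a ∩ W c` nonsingular, `n = r_{a,w} r_{c,w} r_{a,w}` swaps `a` and `c` and is the
reflection `s_w` on `⟨a, c⟩^⊥`. -/
theorem swap (F : SFam q b H O D W) {a c : V} (ha : a ∈ O) (hc : c ∈ O) (hac : b a c = 1) {w : V}
    (hwa : w ∈ W a) (hwc : w ∈ W c) (hq : q w = 1) :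
    ∃ h ∈ H, h a = c ∧ h c = a ∧ ∀ v, b a v = 0 → b c v = 0 → h v = v + b w v • w := by
  obtain ⟨h1, hh1, e1⟩ := F.siegel a ha w hwa
  obtain ⟨h2, hh2, e2⟩ := F.siegel c hc w hwc
  have haw := F.perp_W a ha w hwa
  have hcw := F.perp_W c hc w hwc
  have hwa' : b w a = 0 := by rw [F.comm]; exact haw
  have hwc' : b w c = 0 := by rw [F.comm]; exact hcw
  have hca : b c a = 1 := by rw [F.comm]; exact hac
  have h1a : h1 a = a := by rw [e1]; exact sg_fix (F.self a) hwa'
  have h1w : h1 w = w := by rw [e1]; exact sg_fix haw (F.self w)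
  have h2w : h2 w = w := by rw [e2]; exact sg_fix hcw (F.self w)
  have h2c : h2 c = c := by rw [e2]; exact sg_fix (F.self c) hwc'
  have h2a : h2 a = a + w + c := by
    rw [e2, sg_one hca, hwa', zero_smul, add_zero, hq, one_smul]
  have h1c : h1 c = c + w + a := by
    rw [e1, sg_one hac, hwc', zero_smul, add_zero, hq, one_smul]
  refine ⟨h1 * h2 * h1, H.mul_mem (H.mul_mem hh1 hh2) hh1, ?_, ?_, ?_⟩
  · show h1 (h2 (h1 a)) = c
    rw [h1a, h2a, map_add, map_add, h1a, h1w, h1c]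
    calc a + w + (c + w + a) = c + (w + w) + (a + a) := by abel
      _ = c := by rw [add_self, add_self, add_zero, add_zero]
  · show h1 (h2 (h1 c)) = a
    have : h2 (c + w + a) = a := by
      rw [map_add, map_add, h2c, h2w, h2a]
      calc c + w + (a + w + c) = a + (w + w) + (c + c) := by abel
        _ = a := by rw [add_self, add_self, add_zero, add_zero]
    rw [h1c, this, h1a]
  · intro v hav hcv
    show h1 (h2 (h1 v)) = v + b w v • w
    rcases zm (b w v) with h0 | h0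
    · have h1v : h1 v = v := by rw [e1]; exact sg_fix hav h0
      have h2v : h2 v = v := by rw [e2]; exact sg_fix hcv h0
      rw [h1v, h2v, h1v, h0, zero_smul, add_zero]
    · have h1v : h1 v = v + a := by rw [e1, sg_perp hav, h0, one_smul]
      have h2v : h2 v = v + c := by rw [e2, sg_perp hcv, h0, one_smul]
      rw [h1v, map_add, h2v, h2a, map_add, map_add, map_add, map_add, h1v, h1c, h1a, h1w, h0,
        one_smul]
      calc v + a + (c + w + a) + (a + w + (c + w + a))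
          = v + w + (w + w) + (a + a) + (a + a) + (c + c) := by abel
        _ = v + w := by rw [add_self, add_self, add_self, add_zero, add_zero, add_zero, add_zero]

theorem W_le (F : SFam q b H O D W) {a c : V} (ha : a ∈ O) (hc : c ∈ O) (hac : b a c = 1) {w : V}
    (hwa : w ∈ W a) (hwc : w ∈ W c) (hq : q w = 1) {v : V} (hv : v ∈ W a) (hcv : b c v = 0) :
    v ∈ W c := by
  obtain ⟨h, hh, hha, -, hhv⟩ := F.swap ha hc hac hwa hwc hq
  have h1 := F.W_map h hh a ha v hv
  rw [hha, hhv v (F.perp_W a ha v hv) hcv] at h1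
  have h2 := (W c).add_mem h1 ((W c).smul_mem (b w v) hwc)
  rwa [add_add'] at h2

theorem T_map (F : SFam q b H O D W) {a c : V} (ha : a ∈ O) (hc : c ∈ O) (hac : b a c = 1) {w : V}
    (hwa : w ∈ W a) (hwc : w ∈ W c) (hq : q w = 1) {t : V} (ht : t ∈ D a) (hct : b c t = 0) :
    t + b w t • w ∈ D c := by
  obtain ⟨h, hh, hha, -, hhv⟩ := F.swap ha hc hac hwa hwc hq
  have h1 := F.D_map h hh a ha t ht
  rwa [hha, hhv t (F.perp_D ha ht) hct] at h1

/-- **case (i) is impossible** for `dim V ≥ 8`, `dim D ≥ 2` -/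
theorem case_i (F : SFam q b H O D W) (h8 : 8 ≤ finrank (ZMod 2) V) {a c : V} (ha : a ∈ O) (hc : c ∈ O)
    (hac : b a c = 1) (hd : 2 ≤ finrank (ZMod 2) (D a)) {w : V} (hwa : w ∈ W a) (hwc : w ∈ W c)
    (hq : q w = 1) : False := by
  have hca : b c a = 1 := by rw [F.comm]; exact hac
  have hcw := F.perp_W c hc w hwc
  set W' : Submodule (ZMod 2) V := W a ⊓ pp b c with hW'
  set T : Submodule (ZMod 2) V := D a ⊓ pp b c with hT
  have hwW : w ∈ W' := ⟨hwa, hcw⟩
  have hWc : ∀ v ∈ W', v ∈ W c := fun v hv => F.W_le ha hc hac hwa hwc hq hv.1 hv.2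
  have hmap : ∀ w' ∈ W', q w' = 1 → ∀ t ∈ T, t + b w' t • w' ∈ D c := fun w' hw' hq' t ht =>
    F.T_map ha hc hac hw'.1 (hWc w' hw') hq' ht.1 ht.2
  have dT : finrank (ZMod 2) T + 1 = finrank (ZMod 2) (D a) := F.finrank_T ha hca
  have dW : finrank (ZMod 2) W' + 1 = finrank (ZMod 2) (W a) := F.finrank_Wc ha hca
  have dP : finrank (ZMod 2) (W' ⊓ b.orthogonal T : Submodule (ZMod 2) V) + finrank (ZMod 2) T =
    finrank (ZMod 2) W' := F.finrank_P ha hca
  have dd := F.dim a ha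
  have d2 := F.two_mul_D ha
  have hcap : ∀ t ∈ T, t ≠ 0 → ∃ x ∈ W', b t x = 1 := by
    intro t ht ht0
    by_contra hcon
    push Not at hcon
    exact ht0 (F.cap' ha hca ht.1 ht.2 fun x hx => by
      rcases zm (b t x) with h | h
      · exact h
      · exact absurd h (hcon x hx))
  by_cases hA : ∃ w1 ∈ W', q w1 = 1 ∧ ∀ t ∈ T, b w1 t = 0
  · obtain ⟨w1, hw1, hq1, hw1T⟩ := hA
    have hTc : ∀ t ∈ T, t ∈ D c := by
      intro t ht
      have := hmap w1 hw1 hq1 t ht
      rwa [hw1T t ht, zero_smul, add_zero] at this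
    -- vectors of `W'` not perpendicular to `T` are singular
    have hsing : ∀ y ∈ W', (∃ t ∈ T, b y t = 1) → q y = 0 := by
      rintro y hy ⟨t, ht, hyt⟩
      rcases zm (q y) with h | h
      · exact h
      · exfalso
        have h1 := hmap y hy h t ht
        rw [hyt, one_smul] at h1
        have h2 := (D c).add_mem (hTc t ht) h1
        rw [← add_assoc, add_self, zero_add] at h2
        rw [F.q_D c hc y h2] at h
        exact absurd h (by decide)
    have hone : ∀ p ∈ W', (∀ t ∈ T, b p t = 0) → ∀ y ∈ W', (∃ t ∈ T, b y t = 1) → b y p = q p := by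
      rintro p hp hpT y hy ⟨t, ht, hyt⟩
      have h1 := hsing y hy ⟨t, ht, hyt⟩
      have h2 := hsing (y + p) (W'.add_mem hy hp) ⟨t, ht, by
        rw [map_add, LinearMap.add_apply, hyt, hpT t ht, add_zero]⟩
      rw [F.q_add, h1, zero_add] at h2
      revert h2
      generalize q p = r, b y p = s
      revert r s; decide
    by_cases hT2 : 2 ≤ finrank (ZMod 2) T
    · obtain ⟨t, ht, -, -, ht0, -, -⟩ := F.alt.exists_two hT2
      obtain ⟨x, hx, htx⟩ := hcap t ht ht0
      obtain ⟨t', ht', ht'0, hxt'⟩ := F.alt.exists_mem_pp hT2 x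
      obtain ⟨x', hx', htx'⟩ := hcap t' ht' ht'0
      have e1 := hone w1 hw1 hw1T x hx ⟨t, ht, by rw [F.comm]; exact htx⟩
      have e2 := hone w1 hw1 hw1T x' hx' ⟨t', ht', by rw [F.comm]; exact htx'⟩
      have e3 := hone w1 hw1 hw1T (x + x') (W'.add_mem hx hx') ⟨t', ht', by
        rw [map_add, LinearMap.add_apply, hxt', F.comm x', htx', zero_add]⟩
      rw [map_add, LinearMap.add_apply, e1, e2, hq1] at e3
      exact absurd e3 (by decide)
    · -- `dim T = 1`
      have hTne : T ≠ ⊥ := by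
        intro h0
        rw [h0, finrank_bot] at dT
        omega
      obtain ⟨t, ht, ht0⟩ := (Submodule.ne_bot_iff _).1 hTne
      have hTt : ∀ s ∈ T, s = 0 ∨ s = t := by
        intro s hs
        by_contra hcon
        push Not at hcon
        have h1 : Submodule.span (ZMod 2) ({t} : Set V) ≤ T := by
          rw [Submodule.span_singleton_le_iff_mem]; exact ht
        have h2 := F.alt.eq_of_le h1 (by rw [F.alt.finrank_span_one ht0]; omega)
        rw [← h2] at hs
        rcases mem_span_one.1 hs with h3 | h3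
        · exact hcon.1 h3
        · exact hcon.2 h3
      obtain ⟨x, hx, htx⟩ := hcap t ht ht0
      set P : Submodule (ZMod 2) V := W' ⊓ pp b t with hP
      have hPT : ∀ p ∈ P, ∀ s ∈ T, b p s = 0 := by
        intro p hp s hs
        rcases hTt s hs with rfl | rfl
        · exact map_zero _
        · rw [F.comm]; exact hp.2
      have hPP : ∀ p ∈ P, ∀ p' ∈ P, b p p' = 0 := by
        intro p hp p' hp'
        have e1 := hone p' hp'.1 (hPT p' hp') x hx ⟨t, ht, by rw [F.comm]; exact htx⟩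
        have e2 := hone p' hp'.1 (hPT p' hp') (x + p) (W'.add_mem hx hp.1) ⟨t, ht, by
          rw [map_add, LinearMap.add_apply, F.comm x, htx, hPT p hp t ht, add_zero]⟩
        rw [map_add, LinearMap.add_apply, e1] at e2
        exact add_eq_left.1 e2
      have haP : a ∉ P := fun h => by
        have := h.1.2
        rw [SetLike.mem_coe, mem_pp, hca] at this
        exact absurd this (by decide)
      have hPa : ∀ p ∈ P, b a p = 0 := fun p hp => F.perp_W a ha p hp.1.1
      have h1 : finrank (ZMod 2) (P ⊔ Submodule.span (ZMod 2) {a} : Submodule (ZMod 2) V) =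
        finrank (ZMod 2) P + 1 := F.alt.finrank_sup_one haP
      have h2 : 2 * finrank (ZMod 2) (P ⊔ Submodule.span (ZMod 2) {a} : Submodule (ZMod 2) V) ≤
          finrank (ZMod 2) V := F.alt.two_mul_le (by
        intro v hv v' hv'
        obtain ⟨p, hp, s, hs, rfl⟩ := Submodule.mem_sup.1 hv
        obtain ⟨p', hp', s', hs', rfl⟩ := Submodule.mem_sup.1 hv'
        have e1 := hPP p hp p' hp'
        have e2 : b a a = 0 := F.self a
        have e3 := hPa p hp
        have e4 := hPa p' hp'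
        have e5 : b p a = 0 := by rw [F.comm]; exact e3
        rcases mem_span_one.1 hs with rfl | rfl <;> rcases mem_span_one.1 hs' with rfl | rfl <;>
          simp only [map_add, LinearMap.add_apply, e1, e2, e4, e5, add_zero])
      have h3 : finrank (ZMod 2) W' ≤ finrank (ZMod 2) P + 1 := F.alt.finrank_inf_pp W' t
      omega
  · push Not at hA
    have hB : ∀ w1 ∈ W', q w1 = 1 → ∃ t ∈ T, b w1 t = 1 := by
      intro w1 hw1 hq1
      obtain ⟨t, ht, htw⟩ := hA w1 hw1 hq1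
      exact ⟨t, ht, zm_ne htw⟩
    set Y : Submodule (ZMod 2) V := (D a ⊓ W') ⊓ pp b w with hY
    have hns : ∀ w' ∈ W', q w' = 1 → w' + w ∈ Y := by
      intro w' hw' hq'
      obtain ⟨t, ht, hwt⟩ := hB w' hw' hq'
      have h1 := hmap w' hw' hq' t ht
      rw [hwt, one_smul] at h1
      have h2 : b a (t + w') = 0 := by
        rw [map_add, F.perp_D ha ht.1, F.perp_W a ha w' hw'.1, add_zero]
      have h3 := F.T_map hc ha hca hwc hwa hq h1 h2
      have h4 : w' + b w (t + w') • w ∈ D a := by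
        have := (D a).add_mem ht.1 h3
        rwa [← add_assoc, ← add_assoc, add_self, zero_add] at this
      have h5 : w' + w ∈ D a := by
        rcases zm (b w (t + w')) with h6 | h6
        · rw [h6, zero_smul, add_zero] at h4
          rw [F.q_D a ha _ h4] at hq'
          exact absurd hq' (by decide)
        · rwa [h6, one_smul] at h4
      refine ⟨⟨h5, W'.add_mem hw' hwW⟩, ?_⟩
      show b w (w' + w) = 0
      have h6 := F.q_D a ha _ h5
      rw [F.q_add, hq, hq', one_add, zero_add] at h6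
      rw [map_add, F.self, add_zero, F.comm]
      exact h6
    have hperp : W' ⊓ pp b w ≤ Y ⊔ Submodule.span (ZMod 2) {w} := by
      rintro x ⟨hx, hxw⟩
      rw [Alt.mem_sup_one]
      rcases zm (q x) with h1 | h1
      · have h2 : q (x + w) = 1 := by
          rw [F.q_add, h1, hq, F.comm, mem_pp.1 hxw, zero_add, add_zero]
        have h3 := hns (x + w) (W'.add_mem hx hwW) h2
        rw [add_add'] at h3
        exact Or.inl h3
      · exact Or.inr (hns x hx h1)
    have h1 : finrank (ZMod 2) W' ≤ finrank (ZMod 2) (W' ⊓ pp b w : Submodule (ZMod 2) V) + 1 :=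
      F.alt.finrank_inf_pp W' w
    have h2 : finrank (ZMod 2) (W' ⊓ pp b w : Submodule (ZMod 2) V) ≤
      finrank (ZMod 2) (Y ⊔ Submodule.span (ZMod 2) {w} : Submodule (ZMod 2) V) :=
      F.alt.finrank_le_of_le hperp
    have h3 : finrank (ZMod 2) (Y ⊔ Submodule.span (ZMod 2) {w} : Submodule (ZMod 2) V) ≤
        finrank (ZMod 2) Y + 1 := by
      have hwY : w ∉ Y := fun h => by
        rw [F.q_D a ha w h.1.1] at hq
        exact absurd hq (by decide)
      exact (F.alt.finrank_sup_one hwY).le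
    obtain ⟨t0, ht0, hwt0⟩ := hB w hwW hq
    have h4 : Y ≤ T ⊓ pp b w := fun y hy => ⟨⟨hy.1.1, hy.1.2.2⟩, hy.2⟩
    have h5 : finrank (ZMod 2) Y ≤ finrank (ZMod 2) (T ⊓ pp b w : Submodule (ZMod 2) V) :=
      F.alt.finrank_le_of_le h4
    have h6 : finrank (ZMod 2) (T ⊓ pp b w : Submodule (ZMod 2) V) + 1 = finrank (ZMod 2) T :=
      F.alt.finrank_inf_pp_lt ht0 (by rw [hwt0]; decide)
    obtain ⟨m, hm⟩ := F.alt.even
    -- now `2 dim D = dim V`
    have h7 : 2 * finrank (ZMod 2) (D a) = finrank (ZMod 2) V := by omega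
    have h8' : finrank (ZMod 2) (W' ⊓ b.orthogonal T : Submodule (ZMod 2) V) = 0 := by omega
    have h9 : Y ≤ W' ⊓ b.orthogonal T := by
      intro y hy
      refine ⟨hy.1.2, mem_orth.2 fun s hs => F.b_D ha hs.1 hy.1.1⟩
    have h10 : finrank (ZMod 2) Y ≤ finrank (ZMod 2) (W' ⊓ b.orthogonal T : Submodule (ZMod 2) V) :=
      F.alt.finrank_le_of_le h9
    omega

end SFam

end Cfsg.Agent.LargeExtra.SiegFam
end

-- part: LargeExtra/SiegFam/CaseII
section
/-!
# Siegel families, case (ii): the parameter spaces are totally singular (helper73)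
-/

set_option autoImplicit false

namespace Cfsg.Agent.LargeExtra.SiegFam

open Module Lin

namespace SFam

variable {V : Type*} [AddCommGroup V] [Module (ZMod 2) V]
  {q : V → ZMod 2} {b : LinearMap.BilinForm (ZMod 2) V}
  {H : Subgroup (V ≃ₗ[ZMod 2] V)} {O : Set V} {D W : V → Submodule (ZMod 2) V}

/-- No elliptic plane is orthogonal to a totally singular space of dimension `n/2 - 1` when there is a
totally singular space of dimension `n/2`. -/
theorem no_elliptic (F : SFam q b H O D W) {M U : Submodule (ZMod 2) V} (hM : ∀ v ∈ M, q v = 0)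
    (hM2 : finrank (ZMod 2) V ≤ 2 * finrank (ZMod 2) M) (hU : ∀ v ∈ U, q v = 0)
    (hU2 : finrank (ZMod 2) V ≤ 2 * finrank (ZMod 2) U + 2) {w w' : V} (hw : ∀ u ∈ U, b u w = 0)
    (hw' : ∀ u ∈ U, b u w' = 0) (hqw : q w = 1) (hqw' : q w' = 1) (hww' : b w w' = 1) : False := by
  have A := F.alt
  have hMM : ∀ v ∈ M, ∀ v' ∈ M, b v v' = 0 := fun v hv v' hv' => F.b_ts hM hv hv'
  have hUU : ∀ v ∈ U, ∀ v' ∈ U, b v v' = 0 := fun v hv v' hv' => F.b_ts hU hv hv'
  have hMo : b.orthogonal M = M := by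
    apply le_antisymm
    · intro v hv
      exact A.mem_of_perp hMM hM2 (mem_orth.1 hv)
    · exact fun v hv => mem_orth.2 fun s hs => hMM s hs v hv
  have dM := A.two_mul_le hMM
  have dU := A.two_mul_le hUU
  have hwU : w ∉ U := fun h => by rw [hU w h] at hqw; exact absurd hqw (by decide)
  -- a singular vector of `U^⊥` outside `U`
  obtain ⟨v, hvU, hvU', hqv⟩ : ∃ v, (∀ u ∈ U, b u v = 0) ∧ v ∉ U ∧ q v = 0 := by
    by_contra hcon
    push Not at hcon
    have h1 : b.orthogonal (M ⊔ U) ≤ M ⊓ U := by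
      rw [Alt.orth_sup, hMo]
      rintro v ⟨hv1, hv2⟩
      refine ⟨hv1, ?_⟩
      by_contra h
      exact hcon v (mem_orth.1 hv2) h (hM v hv1)
    have h2 := A.finrank_le_of_le h1
    have h3 := A.finrank_orth (M ⊔ U)
    have h4 := A.finrank_sup_inf M U
    have h5 : M ⊓ U < U ∨ U ≤ M := by
      by_cases h : U ≤ M
      · exact Or.inr h
      · left
        exact lt_of_le_of_ne inf_le_right fun he => h (he ▸ inf_le_left)
    have h6 : finrank (ZMod 2) (M ⊓ U : Submodule (ZMod 2) V) ≤ finrank (ZMod 2) U :=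
      A.finrank_le_of_le inf_le_right
    obtain ⟨m, hm⟩ := A.even
    -- `U` has dimension `n/2 - 1`, else it contains `w`
    by_cases h7 : finrank (ZMod 2) V ≤ 2 * finrank (ZMod 2) U
    · exact hwU (A.mem_of_perp hUU h7 hw)
    · omega
  -- `U^⊥ = U + ⟨w, w'⟩`
  have hw'U : w' ∉ U ⊔ Submodule.span (ZMod 2) {w} := by
    intro h
    rcases Alt.mem_sup_one.1 h with h1 | h1
    · rw [hU w' h1] at hqw'; exact absurd hqw' (by decide)
    · have h2 := hw _ h1
      rw [map_add, LinearMap.add_apply, F.self, add_zero, F.comm, hww'] at h2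
      exact absurd h2 (by decide)
  have d1 := A.finrank_sup_one hwU
  have d2 := A.finrank_sup_one hw'U
  have hle : U ⊔ Submodule.span (ZMod 2) {w} ⊔ Submodule.span (ZMod 2) {w'} ≤ b.orthogonal U := by
    refine sup_le (sup_le ?_ ?_) ?_
    · exact fun v hv => mem_orth.2 fun s hs => hUU s hs v hv
    · rw [Submodule.span_singleton_le_iff_mem]; exact mem_orth.2 hw
    · rw [Submodule.span_singleton_le_iff_mem]; exact mem_orth.2 hw'
  have d3 := A.finrank_orth U
  have heq := A.eq_of_le hle (by omega)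
  have hv : v ∈ U ⊔ Submodule.span (ZMod 2) {w} ⊔ Submodule.span (ZMod 2) {w'} := by
    rw [heq]; exact mem_orth.2 hvU
  have key : ∀ u ∈ U, ∀ x, q x = 1 → (∀ u ∈ U, b u x = 0) → q (u + x) = 1 := by
    intro u hu x hx hxu
    rw [F.q_add, hU u hu, hx, hxu u hu, zero_add, add_zero]
  rcases Alt.mem_sup_one.1 hv with h1 | h1
  · rcases Alt.mem_sup_one.1 h1 with h2 | h2
    · exact hvU' h2
    · have h3 := key _ h2 w hqw hw
      rw [add_add', hqv] at h3
      exact absurd h3 (by decide)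
  · rcases Alt.mem_sup_one.1 h1 with h2 | h2
    · have h3 := key _ h2 w' hqw' hw'
      rw [add_add', hqv] at h3
      exact absurd h3 (by decide)
    · have h3 := key _ h2 (w + w') (by rw [F.q_add, hqw, hqw', hww']; decide) (fun u hu => by
        rw [map_add, hw u hu, hw' u hu, add_zero])
      have h4 : v + w' + w + (w + w') = v := by
        calc v + w' + w + (w + w') = v + (w' + w') + (w + w) := by abel
          _ = v := by rw [add_self, add_self, add_zero, add_zero]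
      rw [h4, hqv] at h3
      exact absurd h3 (by decide)

/-- the hypothesis produced by case (i) -/
def NI (q : V → ZMod 2) (b : LinearMap.BilinForm (ZMod 2) V) (O : Set V)
    (W : V → Submodule (ZMod 2) V) : Prop :=
  ∀ a ∈ O, ∀ c ∈ O, b a c = 1 → ∀ w ∈ W a, w ∈ W c → q w = 0

/-- nonsingular parameters of the two members of a nonperpendicular pair are nonperpendicular -/
theorem b_nonsing (F : SFam q b H O D W) (N : NI q b O W) {a c : V} (ha : a ∈ O) (hc : c ∈ O)
    (hac : b a c = 1) {w w' : V} (hw : w ∈ W a) (hcw : b c w = 0) (hqw : q w = 1) (hw' : w' ∈ W c)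
    (haw' : b a w' = 0) (hqw' : q w' = 1) : b w w' = 1 := by
  rcases zm (b w w') with h | h
  · exfalso
    have h1 : sg q b a w c ∈ O := F.sg_mem ha hw hc
    have h2 : sg q b a w w' ∈ W (sg q b a w c) := F.sg_mem_W ha hw hc hw'
    rw [sg_fix haw' h] at h2
    have h3 : b c (sg q b a w c) = 1 := by
      rw [sg_one hac, F.comm w c, hcw, zero_smul, add_zero, hqw, one_smul, map_add, map_add, F.self,
        hcw, F.comm c a, hac]
      decide
    rw [N c hc _ h1 h3 w' hw' h2] at hqw'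
    exact absurd hqw' (by decide)
  · exact h

/-- every parameter space has a nonsingular vector -/
def NS (q : V → ZMod 2) (O : Set V) (W : V → Submodule (ZMod 2) V) : Prop :=
  ∀ a ∈ O, ∃ w ∈ W a, q w = 1

theorem exists_nonsing (F : SFam q b H O D W) (S : NS q O W) {a c : V} (ha : a ∈ O) (hca : b c a = 1) :
    ∃ w ∈ W a, b c w = 0 ∧ q w = 1 := by
  obtain ⟨w, hw, hq⟩ := S a ha
  rcases zm (b c w) with h | h
  · exact ⟨w, hw, h, hq⟩
  · refine ⟨w + a, (W a).add_mem hw (F.self_W a ha), ?_, ?_⟩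
    · rw [map_add, h, hca]; decide
    · rw [F.q_add, hq, F.q_self ha, F.comm, F.perp_W a ha w hw, add_zero, add_zero]

/-- the radical of the parameter space -/
def Rad (b : LinearMap.BilinForm (ZMod 2) V) (W : V → Submodule (ZMod 2) V) (a : V) :
    Submodule (ZMod 2) V := W a ⊓ b.orthogonal (W a)

theorem mem_Rad {a v : V} : v ∈ Rad b W a ↔ v ∈ W a ∧ ∀ w ∈ W a, b w v = 0 := by
  rw [Rad, Submodule.mem_inf, mem_orth]

theorem self_Rad (F : SFam q b H O D W) {a : V} (ha : a ∈ O) : a ∈ Rad b W a :=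
  mem_Rad.2 ⟨F.self_W a ha, fun w hw => by rw [F.comm]; exact F.perp_W a ha w hw⟩

theorem Rad_map (F : SFam q b H O D W) {h : V ≃ₗ[ZMod 2] V} (hh : h ∈ H) {a v : V} (ha : a ∈ O)
    (hv : v ∈ Rad b W a) : h v ∈ Rad b W (h a) := by
  rw [mem_Rad] at hv ⊢
  refine ⟨F.W_map h hh a ha v hv.1, fun w hw => ?_⟩
  have h1 : h⁻¹ w ∈ W a := by
    rw [← F.mem_W_iff hh ha, inv_apply]; exact hw
  have h2 := hv.2 _ h1
  rwa [← F.b_H hh, inv_apply] at h2

/-- the dimensions in case (ii): `2 dim D = dim V`, and the hyperplane `K` -/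
theorem dims (F : SFam q b H O D W) (N : NI q b O W) (S : NS q O W) {a c : V} (ha : a ∈ O) (hc : c ∈ O)
    (hac : b a c = 1) {w' : V} (hw' : w' ∈ W c) (haw' : b a w' = 0) (hqw' : q w' = 1) :
    2 * finrank (ZMod 2) (D a) = finrank (ZMod 2) V ∧
    finrank (ZMod 2) ((W a ⊓ pp b c) ⊓ pp b w' : Submodule (ZMod 2) V) + 2 = finrank (ZMod 2) (D a) ∧
    (∀ k ∈ W a, b c k = 0 → b w' k = 0 → q k = 0) := by
  have hca : b c a = 1 := by rw [F.comm]; exact hac
  obtain ⟨w, hw, hcw, hqw⟩ := F.exists_nonsing S ha hca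
  have hww' := F.b_nonsing N ha hc hac hw hcw hqw hw' haw' hqw'
  set K : Submodule (ZMod 2) V := (W a ⊓ pp b c) ⊓ pp b w' with hK
  have hKq : ∀ k ∈ W a, b c k = 0 → b w' k = 0 → q k = 0 := by
    intro k hk hck hkw'
    rcases zm (q k) with h | h
    · exact h
    · exfalso
      have := F.b_nonsing N ha hc hac hk hck h hw' haw' hqw'
      rw [F.comm, hkw'] at this
      exact absurd this (by decide)
  have hKK : ∀ k ∈ K, q k = 0 := fun k hk => hKq k hk.1.1 hk.1.2 hk.2
  have haK : a ∉ K := fun h => by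
    have h' : b c a = 0 := h.1.2
    rw [hca] at h'
    exact absurd h' (by decide)
  have hU : ∀ v ∈ K ⊔ Submodule.span (ZMod 2) {a}, q v = 0 := by
    intro v hv
    rcases Alt.mem_sup_one.1 hv with h | h
    · exact hKK v h
    · have h1 := hKK _ h
      have h2 : b a (v + a) = 0 := F.perp_W a ha _ h.1.1
      have h3 : q v = q (v + a + a) := by rw [add_add']
      rw [h3, F.q_add, h1, F.q_self ha, F.comm, h2, add_zero, add_zero]
  have d1 : finrank (ZMod 2) (K ⊔ Submodule.span (ZMod 2) {a} : Submodule (ZMod 2) V) =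
    finrank (ZMod 2) K + 1 := F.alt.finrank_sup_one haK
  have d2 : 2 * finrank (ZMod 2) (K ⊔ Submodule.span (ZMod 2) {a} : Submodule (ZMod 2) V) ≤
    finrank (ZMod 2) V := F.alt.two_mul_le fun _ hv _ hv' => F.b_ts hU hv hv'
  have d3 : finrank (ZMod 2) K + 1 = finrank (ZMod 2) (W a ⊓ pp b c : Submodule (ZMod 2) V) :=
    F.alt.finrank_inf_pp_lt (s := w) ⟨hw, hcw⟩ (by rw [F.comm, hww']; decide)
  have d4 := F.finrank_Wc ha hca
  have d5 := F.dim a ha
  have d6 := F.two_mul_D ha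
  obtain ⟨m, hm⟩ := F.alt.even
  have d7 : 2 * finrank (ZMod 2) (D a) = finrank (ZMod 2) V := by
    by_contra hne
    -- `K + ⟨a⟩` would be maximal totally singular, perpendicular to `w'`
    have h1 : finrank (ZMod 2) V ≤
        2 * finrank (ZMod 2) (K ⊔ Submodule.span (ZMod 2) {a} : Submodule (ZMod 2) V) := by omega
    have h2 := F.alt.mem_of_perp (fun _ hv _ hv' => F.b_ts hU hv hv') h1 (v := w') (by
      intro s hs
      rcases Alt.mem_sup_one.1 hs with h | h
      · rw [F.comm]; exact h.2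
      · have h3 : b w' (s + a) = 0 := h.2
        rw [map_add, F.comm w' a, haw', add_zero] at h3
        rw [F.comm]; exact h3)
    rw [hU w' h2] at hqw'
    exact absurd hqw' (by decide)
  exact ⟨d7, by omega, hKq⟩

/-- no nonsingular `v ∈ W a ∩ c^⊥` is perpendicular to `K` -/
theorem not_perp_K (F : SFam q b H O D W) (N : NI q b O W) (S : NS q O W) {a c : V} (ha : a ∈ O)
    (hc : c ∈ O) (hac : b a c = 1) {v : V} (hv : v ∈ W a) (hcv : b c v = 0) (hqv : q v = 1)
    (hp : ∀ k ∈ W a, b c k = 0 → b k v = 0) : False := by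
  obtain ⟨w', hw', haw', hqw'⟩ := F.exists_nonsing S hc hac
  obtain ⟨d1, d2, hKq⟩ := F.dims N S ha hc hac hw' haw' hqw'
  have hca : b c a = 1 := by rw [F.comm]; exact hac
  set K : Submodule (ZMod 2) V := (W a ⊓ pp b c) ⊓ pp b w' with hK
  have haK : a ∉ K := fun h => by
    have h' : b c a = 0 := h.1.2
    rw [hca] at h'
    exact absurd h' (by decide)
  have hU : ∀ v ∈ K ⊔ Submodule.span (ZMod 2) {a}, q v = 0 := by
    intro v hv
    rcases Alt.mem_sup_one.1 hv with h | h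
    · exact hKq v h.1.1 h.1.2 h.2
    · have h1 := hKq _ h.1.1 h.1.2 h.2
      have h2 : b a (v + a) = 0 := F.perp_W a ha _ h.1.1
      have h3 : q v = q (v + a + a) := by rw [add_add']
      rw [h3, F.q_add, h1, F.q_self ha, F.comm, h2, add_zero, add_zero]
  have d3 : finrank (ZMod 2) (K ⊔ Submodule.span (ZMod 2) {a} : Submodule (ZMod 2) V) =
    finrank (ZMod 2) K + 1 := F.alt.finrank_sup_one haK
  refine F.no_elliptic (M := D a) (F.q_D a ha) d1.ge hU (w := v) (w' := w') (by omega) ?_ ?_ hqv hqw'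
    (F.b_nonsing N ha hc hac hv hcv hqv hw' haw' hqw')
  · intro s hs
    rcases Alt.mem_sup_one.1 hs with h | h
    · exact hp s h.1.1 h.1.2
    · have h1 := hp _ h.1.1 h.1.2
      rw [map_add, LinearMap.add_apply, F.perp_W a ha v hv, add_zero] at h1
      exact h1
  · intro s hs
    rcases Alt.mem_sup_one.1 hs with h | h
    · rw [F.comm]; exact h.2
    · have h3 : b w' (s + a) = 0 := h.2
      rw [map_add, F.comm w' a, haw', add_zero] at h3
      rw [F.comm]; exact h3

/-- the radical is totally singular -/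
theorem q_Rad (F : SFam q b H O D W) (N : NI q b O W) (S : NS q O W) {a c : V} (ha : a ∈ O)
    (hc : c ∈ O) (hac : b a c = 1) {v : V} (hv : v ∈ Rad b W a) : q v = 0 := by
  have hca : b c a = 1 := by rw [F.comm]; exact hac
  rcases zm (q v) with h | h
  · exact h
  · exfalso
    rw [mem_Rad] at hv
    rcases zm (b c v) with h1 | h1
    · exact F.not_perp_K N S ha hc hac hv.1 h1 h fun k hk _ => hv.2 k hk
    · refine F.not_perp_K N S ha hc hac (v := v + a) ((W a).add_mem hv.1 (F.self_W a ha)) ?_ ?_ ?_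
      · rw [map_add, h1, hca]; decide
      · rw [F.q_add, h, F.q_self ha, F.comm, F.perp_W a ha v hv.1, add_zero, add_zero]
      · intro k hk _
        rw [map_add, hv.2 k hk, F.comm, F.perp_W a ha k hk, add_zero]

/-- `dim (Rad a ∩ c^⊥) + 3 ≥ dim D` -/
theorem finrank_Rad (F : SFam q b H O D W) (N : NI q b O W) (S : NS q O W) {a c : V} (ha : a ∈ O)
    (hc : c ∈ O) (hac : b a c = 1) :
    finrank (ZMod 2) (D a) ≤ finrank (ZMod 2) (Rad b W a ⊓ pp b c : Submodule (ZMod 2) V) + 3 := by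
  have hca : b c a = 1 := by rw [F.comm]; exact hac
  obtain ⟨w', hw', haw', hqw'⟩ := F.exists_nonsing S hc hac
  obtain ⟨w, hw, hcw, hqw⟩ := F.exists_nonsing S ha hca
  have hww' := F.b_nonsing N ha hc hac hw hcw hqw hw' haw' hqw'
  obtain ⟨d1, d2, hKq⟩ := F.dims N S ha hc hac hw' haw' hqw'
  set K : Submodule (ZMod 2) V := (W a ⊓ pp b c) ⊓ pp b w' with hK
  have hKK : ∀ k ∈ K, q k = 0 := fun k hk => hKq k hk.1.1 hk.1.2 hk.2
  have h1 : finrank (ZMod 2) K ≤ finrank (ZMod 2) (K ⊓ pp b w : Submodule (ZMod 2) V) + 1 :=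
    F.alt.finrank_inf_pp K w
  have h2 : K ⊓ pp b w ≤ Rad b W a ⊓ pp b c := by
    rintro v ⟨hv, hvw⟩
    have hvw' : b w v = 0 := hvw
    refine ⟨mem_Rad.2 ⟨hv.1.1, ?_⟩, hv.1.2⟩
    have e1 : b a v = 0 := F.perp_W a ha v hv.1.1
    -- reduce to `K`
    have e2 : ∀ x ∈ W a, b c x = 0 → b x v = 0 := by
      intro x hx hcx
      rcases zm (b w' x) with h3 | h3
      · exact F.b_ts hKK (v := x) ⟨⟨hx, hcx⟩, h3⟩ hv
      · have h4 : x + w ∈ K := by
          refine ⟨⟨(W a).add_mem hx hw, ?_⟩, ?_⟩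
          · show b c (x + w) = 0
            rw [map_add, hcx, hcw, add_zero]
          · show b w' (x + w) = 0
            rw [map_add, h3, F.comm w' w, hww']; decide
        have h5 := F.b_ts hKK h4 hv
        rwa [map_add, LinearMap.add_apply, hvw', add_zero] at h5
    intro x hx
    rcases zm (b c x) with h3 | h3
    · exact e2 x hx h3
    · have h4 := e2 (x + a) ((W a).add_mem hx (F.self_W a ha)) (by rw [map_add, h3, hca]; decide)
      rwa [map_add, LinearMap.add_apply, e1, add_zero] at h4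
  have h3 : finrank (ZMod 2) (K ⊓ pp b w : Submodule (ZMod 2) V) ≤
    finrank (ZMod 2) (Rad b W a ⊓ pp b c : Submodule (ZMod 2) V) := F.alt.finrank_le_of_le h2
  omega

/-- the radical is perpendicular to the nonsingular parameters on the other side -/
theorem Rad_perp (F : SFam q b H O D W) (N : NI q b O W) (S : NS q O W) {a c : V} (ha : a ∈ O)
    (hc : c ∈ O) (hac : b a c = 1) {v : V} (hv : v ∈ Rad b W a) (hcv : b c v = 0) {w' : V}
    (hw' : w' ∈ W c) (haw' : b a w' = 0) (hqw' : q w' = 1) : b v w' = 0 := by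
  have hca : b c a = 1 := by rw [F.comm]; exact hac
  obtain ⟨w, hw, hcw, hqw⟩ := F.exists_nonsing S ha hca
  have hqv := F.q_Rad N S ha hc hac hv
  rw [mem_Rad] at hv
  have h1 := F.b_nonsing N ha hc hac hw hcw hqw hw' haw' hqw'
  have h2 := F.b_nonsing N ha hc hac (w := w + v) ((W a).add_mem hw hv.1)
    (by rw [map_add, hcw, hcv, add_zero]) (by rw [F.q_add, hqw, hqv, hv.2 w hw, add_zero, add_zero])
    hw' haw' hqw'
  rw [map_add, LinearMap.add_apply, h1] at h2
  exact add_eq_left.1 h2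

/-- **Claim 1**: `Rad a ∩ c^⊥ = Rad c ∩ a^⊥` -/
theorem Rad_le (F : SFam q b H O D W) (N : NI q b O W) (S : NS q O W) {a c : V} (ha : a ∈ O)
    (hc : c ∈ O) (hac : b a c = 1) : Rad b W c ⊓ pp b a ≤ Rad b W a ⊓ pp b c := by
  have hca : b c a = 1 := by rw [F.comm]; exact hac
  obtain ⟨w', hw', haw', hqw'⟩ := F.exists_nonsing S hc hac
  obtain ⟨w, hw, hcw, hqw⟩ := F.exists_nonsing S ha hca
  have hww' := F.b_nonsing N ha hc hac hw hcw hqw hw' haw' hqw'
  obtain ⟨d1, -, -⟩ := F.dims N S ha hc hac hw' haw' hqw'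
  have dR := F.finrank_Rad N S ha hc hac
  set R1 : Submodule (ZMod 2) V := Rad b W a ⊓ pp b c with hR1
  set R2 : Submodule (ZMod 2) V := Rad b W c ⊓ pp b a with hR2
  have p1 : ∀ v ∈ R1, ∀ x ∈ W c, b a x = 0 → q x = 1 → b v x = 0 := fun v hv x hx hax hqx =>
    F.Rad_perp N S ha hc hac hv.1 hv.2 hx hax hqx
  have p2 : ∀ v ∈ R2, ∀ x ∈ W a, b c x = 0 → q x = 1 → b v x = 0 := fun v hv x hx hcx hqx =>
    F.Rad_perp N S hc ha hca hv.1 hv.2 hx hcx hqx
  have q1 : ∀ v ∈ R1, q v = 0 := fun v hv => F.q_Rad N S ha hc hac hv.1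
  have q2 : ∀ v ∈ R2, q v = 0 := fun v hv => F.q_Rad N S hc ha hca hv.1
  have p3 : ∀ v ∈ R1, ∀ x ∈ R2, b v x = 0 := by
    intro v hv x hx
    have hx' := mem_Rad.1 hx.1
    have e1 := p1 v hv w' hw' haw' hqw'
    have e2 := p1 v hv (w' + x) ((W c).add_mem hw' hx'.1) (by
      rw [map_add, haw', mem_pp.1 hx.2, add_zero]) (by
      rw [F.q_add, hqw', q2 x hx, hx'.2 w' hw', add_zero, add_zero])
    rwa [map_add, e1, zero_add] at e2
  -- `U = R1 + R2 + ⟨a⟩`
  have haU : a ∉ R1 ⊔ R2 := by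
    intro h
    obtain ⟨x, hx, y, hy, hxy⟩ := Submodule.mem_sup.1 h
    have h1 : b c (x + y) = 0 := by
      rw [map_add, mem_pp.1 hx.2, F.perp_W c hc y (mem_Rad.1 hy.1).1, add_zero]
    rw [hxy, hca] at h1
    exact absurd h1 (by decide)
  have qU : ∀ v ∈ R1 ⊔ R2, q v = 0 := by
    intro v hv
    obtain ⟨x, hx, y, hy, rfl⟩ := Submodule.mem_sup.1 hv
    rw [F.q_add, q1 x hx, q2 y hy, p3 x hx y hy, add_zero, add_zero]
  have aU : ∀ v ∈ R1 ⊔ R2, b a v = 0 := by
    intro v hv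
    obtain ⟨x, hx, y, hy, rfl⟩ := Submodule.mem_sup.1 hv
    rw [map_add, F.perp_W a ha x (mem_Rad.1 hx.1).1, mem_pp.1 hy.2, add_zero]
  have qU' : ∀ v ∈ R1 ⊔ R2 ⊔ Submodule.span (ZMod 2) {a}, q v = 0 := by
    intro v hv
    rcases Alt.mem_sup_one.1 hv with h | h
    · exact qU v h
    · have h3 : q v = q (v + a + a) := by rw [add_add']
      rw [h3, F.q_add, qU _ h, F.q_self ha, F.comm, aU _ h, add_zero, add_zero]
  have d3 : finrank (ZMod 2) (R1 ⊔ R2 ⊔ Submodule.span (ZMod 2) {a} : Submodule (ZMod 2) V) =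
    finrank (ZMod 2) (R1 ⊔ R2 : Submodule (ZMod 2) V) + 1 := F.alt.finrank_sup_one haU
  have hwU : ∀ v ∈ R1 ⊔ R2, b v w = 0 ∧ b v w' = 0 := by
    intro v hv
    obtain ⟨x, hx, y, hy, rfl⟩ := Submodule.mem_sup.1 hv
    constructor
    · rw [map_add, LinearMap.add_apply, p2 y hy w hw hcw hqw, F.comm x, (mem_Rad.1 hx.1).2 w hw,
        add_zero]
    · rw [map_add, LinearMap.add_apply, p1 x hx w' hw' haw' hqw', F.comm y,
        (mem_Rad.1 hy.1).2 w' hw', add_zero]
  have hdim : finrank (ZMod 2) (R1 ⊔ R2 : Submodule (ZMod 2) V) + 3 ≤ finrank (ZMod 2) (D a) := by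
    by_contra hcon
    refine F.no_elliptic (M := D a) (F.q_D a ha) d1.ge qU' (w := w) (w' := w') (by omega) ?_ ?_ hqw
      hqw' hww'
    · intro s hs
      rcases Alt.mem_sup_one.1 hs with h | h
      · exact (hwU s h).1
      · have h1 := (hwU _ h).1
        rwa [map_add, LinearMap.add_apply, F.perp_W a ha w hw, add_zero] at h1
    · intro s hs
      rcases Alt.mem_sup_one.1 hs with h | h
      · exact (hwU s h).2
      · have h1 := (hwU _ h).2
        rwa [map_add, LinearMap.add_apply, haw', add_zero] at h1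
  have h1 : R1 = R1 ⊔ R2 := F.alt.eq_of_le le_sup_left (by omega)
  rw [h1]
  exact le_sup_right

theorem Rad_eq (F : SFam q b H O D W) (N : NI q b O W) (S : NS q O W) {a c : V} (ha : a ∈ O)
    (hc : c ∈ O) (hac : b a c = 1) : Rad b W a ⊓ pp b c = Rad b W c ⊓ pp b a :=
  le_antisymm (F.Rad_le N S hc ha (by rw [F.comm]; exact hac)) (F.Rad_le N S ha hc hac)

/-- Claim 2 for triangles -/
theorem Rad_tri (F : SFam q b H O D W) (N : NI q b O W) (S : NS q O W) {a c e : V} (ha : a ∈ O)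
    (hc : c ∈ O) (he : e ∈ O) (hac : b a c = 1) (hce : b c e = 1) (hae : b a e = 1) {r : V}
    (hr : r ∈ Rad b W a) (hcr : b c r = 0) : b e r = 0 := by
  rcases zm (b e r) with h | h
  · exact h
  · exfalso
    have hea : b e a = 1 := by rw [F.comm]; exact hae
    have hec : b e c = 1 := by rw [F.comm]; exact hce
    have h1 : r + a ∈ Rad b W a ⊓ pp b e :=
      ⟨(Rad b W a).add_mem hr (F.self_Rad ha), by
        show b e (r + a) = 0
        rw [map_add, h, hea]; decide⟩
    rw [F.Rad_eq N S ha he hae] at h1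
    have h2 : r ∈ Rad b W a ⊓ pp b c := ⟨hr, hcr⟩
    rw [F.Rad_eq N S ha hc hac] at h2
    have h3 : r + c ∈ Rad b W c ⊓ pp b e :=
      ⟨(Rad b W c).add_mem h2.1 (F.self_Rad hc), by
        show b e (r + c) = 0
        rw [map_add, h, hec]; decide⟩
    rw [F.Rad_eq N S hc he hce] at h3
    have h4 := (Rad b W e).add_mem h1.1 h3.1
    have h5 : r + a + (r + c) = a + c := by
      calc r + a + (r + c) = a + c + (r + r) := by abel
        _ = a + c := by rw [add_self, add_zero]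
    rw [h5] at h4
    have h6 := F.q_Rad N S he ha hea h4
    rw [F.q_add, F.q_self ha, F.q_self hc, hac] at h6
    exact absurd h6 (by decide)

theorem Rad_path_le (F : SFam q b H O D W) (N : NI q b O W) (S : NS q O W) {a c e : V} (ha : a ∈ O)
    (hc : c ∈ O) (he : e ∈ O) (hac : b a c = 1) (hce : b c e = 1) :
    Rad b W a ⊓ pp b c ≤ Rad b W c ⊓ pp b e := by
  intro r hr
  have hr' := hr
  rw [F.Rad_eq N S ha hc hac] at hr'
  refine ⟨hr'.1, ?_⟩
  show b e r = 0
  rcases zm (b a e) with hae | hae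
  · rcases zm (b e r) with h | h
    · exact h
    · exfalso
      have hca : b c a = 1 := by rw [F.comm]; exact hac
      have hea : b e a = 0 := by rw [F.comm]; exact hae
      have hec : b e c = 1 := by rw [F.comm]; exact hce
      have hqr := F.q_Rad N S ha hc hac hr.1
      -- a nonsingular parameter perpendicular to `e`
      obtain ⟨w, hw, hcw, hqw, hew⟩ : ∃ w ∈ W a, b c w = 0 ∧ q w = 1 ∧ b e w = 0 := by
        obtain ⟨w, hw, hcw, hqw⟩ := F.exists_nonsing S ha hca
        rcases zm (b e w) with h1 | h1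
        · exact ⟨w, hw, hcw, hqw, h1⟩
        · refine ⟨w + r, (W a).add_mem hw (mem_Rad.1 hr.1).1, ?_, ?_, ?_⟩
          · rw [map_add, hcw, mem_pp.1 hr.2, add_zero]
          · rw [F.q_add, hqw, hqr, (mem_Rad.1 hr.1).2 w hw, add_zero, add_zero]
          · rw [map_add, h1, h]; decide
      have haw := F.perp_W a ha w hw
      have hc' : sg q b a w c ∈ O := F.sg_mem ha hw hc
      rw [sg_one hac, F.comm w c, hcw, zero_smul, add_zero, hqw, one_smul] at hc'
      set c' := c + w + a with hc'd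
      have hac' : b a c' = 1 := by
        rw [hc'd, map_add, map_add, hac, haw, F.self, add_zero, add_zero]
      have hcc' : b c c' = 1 := by
        rw [hc'd, map_add, map_add, F.self, hcw, hca, zero_add, zero_add]
      have hec' : b e c' = 1 := by
        rw [hc'd, map_add, map_add, hec, hew, hea, add_zero, add_zero]
      have hc'e : b c' e = 1 := by rw [F.comm]; exact hec'
      have hc'c : b c' c = 1 := by rw [F.comm]; exact hcc'
      -- `r ∈ Rad c ∩ c'^⊥ = Rad c' ∩ c^⊥`, then triangle `c', c, e`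
      have h1 : b c' r = 0 := F.Rad_tri N S ha hc hc' hac hcc' hac' hr.1 hr.2
      have h2 : r ∈ Rad b W c ⊓ pp b c' := ⟨hr'.1, h1⟩
      rw [F.Rad_eq N S hc hc' hcc'] at h2
      have h3 := F.Rad_tri N S hc' hc he hc'c hce hc'e h2.1 h2.2
      rw [h] at h3
      exact absurd h3 (by decide)
  · exact F.Rad_tri N S ha hc he hac hce hae hr.1 hr.2

/-- **Claim 2** -/
theorem Rad_path (F : SFam q b H O D W) (N : NI q b O W) (S : NS q O W) {a c e : V} (ha : a ∈ O)
    (hc : c ∈ O) (he : e ∈ O) (hac : b a c = 1) (hce : b c e = 1) :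
    Rad b W a ⊓ pp b c = Rad b W c ⊓ pp b e := by
  apply le_antisymm (F.Rad_path_le N S ha hc he hac hce)
  have h1 := F.Rad_path_le N S he hc ha (by rw [F.comm]; exact hce) (by rw [F.comm]; exact hac)
  rw [← F.Rad_eq N S hc he hce, ← F.Rad_eq N S ha hc hac] at h1
  exact h1

/-- **connectivity** of the nonperpendicularity graph when parameter spaces are not totally singular -/
theorem connected (F : SFam q b H O D W) (S : NS q O W) (hnb : ∀ a ∈ O, ∃ c ∈ O, b a c = 1)
    {P : V → Prop} (hcl : ∀ a ∈ O, ∀ c ∈ O, P a → b a c = 1 → P c) {a0 : V} (ha0 : a0 ∈ O)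
    (hP : P a0) : ∀ c ∈ O, P c := by
  intro c0 hc0
  by_contra hPc0
  have hperp : ∀ a ∈ O, ∀ c ∈ O, P a → ¬ P c → b a c = 0 := by
    intro a ha c hc hPa hPc
    rcases zm (b a c) with h | h
    · exact h
    · exact absurd (hcl a ha c hc hPa h) hPc
  -- step 1
  have step1 : ∀ a ∈ O, ∀ c ∈ O, P a → ¬ P c → ∀ u ∈ W c, b a u = 0 := by
    intro a ha c hc hPa hPc u hu
    rcases zm (b a u) with h | h
    · exact h
    · exfalso
      have hca : b c a = 0 := by rw [F.comm]; exact hperp a ha c hc hPa hPc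
      have h1 := F.sg_mem hc hu ha
      rw [sg_perp hca, F.comm u a, h, one_smul] at h1
      obtain ⟨c', hc', hcc'⟩ := hnb c hc
      obtain ⟨a', ha', haa'⟩ := hnb a ha
      have hPa' := hcl a ha a' ha' hPa haa'
      have hPc' : ¬ P c' := fun h2 => hPc (hcl c' hc' c hc h2 (by rw [F.comm]; exact hcc'))
      by_cases h2 : P (a + c)
      · apply hPc'
        apply hcl _ h1 c' hc' h2
        rw [map_add, LinearMap.add_apply, hperp a ha c' hc' hPa hPc', hcc', zero_add]
      · apply h2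
        apply hcl a' ha' _ h1 hPa'
        rw [map_add, hperp a' ha' c hc hPa' hPc, F.comm a', haa', add_zero]
  have step1' : ∀ a ∈ O, ∀ c ∈ O, P a → ¬ P c → ∀ u ∈ W a, b c u = 0 := by
    intro a ha c hc hPa hPc u hu
    rcases zm (b c u) with h | h
    · exact h
    · exfalso
      have hac := hperp a ha c hc hPa hPc
      have h1 := F.sg_mem ha hu hc
      rw [sg_perp hac, F.comm u c, h, one_smul] at h1
      obtain ⟨c', hc', hcc'⟩ := hnb c hc
      obtain ⟨a', ha', haa'⟩ := hnb a ha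
      have hPa' := hcl a ha a' ha' hPa haa'
      have hPc' : ¬ P c' := fun h2 => hPc (hcl c' hc' c hc h2 (by rw [F.comm]; exact hcc'))
      by_cases h2 : P (c + a)
      · apply hPc'
        apply hcl _ h1 c' hc' h2
        rw [map_add, LinearMap.add_apply, hperp a ha c' hc' hPa hPc', hcc', add_zero]
      · apply h2
        apply hcl a' ha' _ h1 hPa'
        rw [map_add, hperp a' ha' c hc hPa' hPc, F.comm a', haa', zero_add]
  have hcD : ∀ a ∈ O, ∀ c ∈ O, P a → ¬ P c → c ∉ D a := by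
    intro a ha c hc hPa hPc hcD
    rcases F.cap a ha c hcD (step1' a ha c hc hPa hPc) with h | h
    · exact F.zero c hc h
    · rw [h] at hPc; exact hPc hPa
  have step2 : ∀ v ∈ D a0, b c0 v = 0 := by
    intro v hv
    rcases zm (b c0 v) with h | h
    · exact h
    · exfalso
      obtain ⟨u, hu, hqu⟩ := S c0 hc0
      have hca : b c0 a0 = 0 := by rw [F.comm]; exact hperp a0 ha0 c0 hc0 hP hPc0
      have hua : b u a0 = 0 := by rw [F.comm]; exact step1 a0 ha0 c0 hc0 hP hPc0 u hu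
      have h1 := F.sg_mem_D hc0 hu ha0 hv
      rw [sg_fix hca hua, sg_one h, hqu, one_smul] at h1
      have h2 : b u v • c0 + u + c0 ∈ D a0 := by
        have := (D a0).add_mem hv h1
        have e : v + (v + b u v • c0 + u + c0) = b u v • c0 + u + c0 := by
          calc v + (v + b u v • c0 + u + c0) = (v + v) + (b u v • c0 + u + c0) := by abel
            _ = _ := by rw [add_self, zero_add]
        rwa [e] at this
      have h3 := F.q_D a0 ha0 _ h2
      have hcu := F.perp_W c0 hc0 u hu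
      rcases zm (b u v) with h4 | h4
      · rw [h4, zero_smul, zero_add, F.q_add, hqu, F.q_self hc0, F.comm, hcu] at h3
        exact absurd h3 (by decide)
      · rw [h4, one_smul] at h3
        have e : c0 + u + c0 = u := by
          calc c0 + u + c0 = u + (c0 + c0) := by abel
            _ = u := by rw [add_self, add_zero]
        rw [e, hqu] at h3
        exact absurd h3 (by decide)
  have step3 : ∀ v ∈ D a0, ∀ u ∈ W c0, b u v = 0 := by
    intro v hv u hu
    rcases zm (b u v) with h | h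
    · exact h
    · exfalso
      have hca : b c0 a0 = 0 := by rw [F.comm]; exact hperp a0 ha0 c0 hc0 hP hPc0
      have hua : b u a0 = 0 := by rw [F.comm]; exact step1 a0 ha0 c0 hc0 hP hPc0 u hu
      have h1 := F.sg_mem_D hc0 hu ha0 hv
      rw [sg_fix hca hua, sg_perp (step2 v hv), h, one_smul] at h1
      have h2 := (D a0).add_mem hv h1
      rw [← add_assoc, add_self, zero_add] at h2
      exact hcD a0 ha0 c0 hc0 hP hPc0 h2
  have h1 : D a0 ≤ b.orthogonal (W c0) := fun v hv => mem_orth.2 fun u hu => step3 v hv u hu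
  have h2 := F.alt.finrank_orth (W c0)
  have h3 := F.dim c0 hc0
  have h4 := F.finrank_D ha0 hc0
  have h5 := F.alt.eq_of_le h1 (by omega)
  apply hcD a0 ha0 c0 hc0 hP hPc0
  rw [h5]
  exact mem_orth.2 fun u hu => by rw [F.comm]; exact F.perp_W c0 hc0 u hu

/-- **case (ii)**: the parameter spaces are totally singular -/
theorem W_ts (F : SFam q b H O D W) (h8 : 8 ≤ finrank (ZMod 2) V)
    (hirr : ∀ R : Submodule (ZMod 2) V, (∀ v ∈ R, q v = 0) → (∀ h ∈ H, ∀ v ∈ R, h v ∈ R) → R = ⊥)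
    {a0 c0 : V} (ha0 : a0 ∈ O) (hc0 : c0 ∈ O) (hac0 : b a0 c0 = 1)
    (hd : 2 ≤ finrank (ZMod 2) (D a0)) : ∀ c ∈ O, ∀ v ∈ W c, q v = 0 := by
  have N : NI q b O W := by
    intro a ha c hc hac w hwa hwc
    rcases zm (q w) with h | h
    · exact h
    · exact (F.case_i h8 ha hc hac (by rw [F.finrank_D ha ha0]; exact hd) hwa hwc h).elim
  by_contra hcon
  push Not at hcon
  obtain ⟨e, he, v, hv, hqv⟩ := hcon
  have hqv' := zm_ne hqv
  have S : NS q O W := by
    intro c hc
    obtain ⟨h, hh, rfl⟩ := F.trans e he c hc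
    exact ⟨h v, F.W_map h hh e he v hv, by rw [F.q_H h hh]; exact hqv'⟩
  have hnb : ∀ a ∈ O, ∃ c ∈ O, b a c = 1 := by
    intro a ha
    obtain ⟨h, hh, rfl⟩ := F.trans a0 ha0 a ha
    exact ⟨h c0, F.stable h hh c0 hc0, by rw [F.b_H hh]; exact hac0⟩
  set R0 : Submodule (ZMod 2) V := Rad b W a0 ⊓ pp b c0 with hR0
  have hall : ∀ a ∈ O, ∀ c ∈ O, b a c = 1 → Rad b W a ⊓ pp b c = R0 := by
    apply F.connected S hnb (P := fun a => ∀ c ∈ O, b a c = 1 → Rad b W a ⊓ pp b c = R0) ?_ ha0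
    · intro c hc hac
      rw [hR0, F.Rad_eq N S ha0 hc0 hac0]
      exact (F.Rad_path N S hc0 ha0 hc (by rw [F.comm]; exact hac0) hac).symm
    · intro a ha c hc hPa hac e he hce
      rw [← F.Rad_path N S ha hc he hac hce]
      exact hPa c hc hac
  have h1 := hirr R0 (fun v hv => F.q_Rad N S ha0 hc0 hac0 hv.1) (by
    intro h hh v hv
    rw [← hall (h a0) (F.stable h hh a0 ha0) (h c0) (F.stable h hh c0 hc0)
      (by rw [F.b_H hh]; exact hac0)]
    refine ⟨F.Rad_map hh ha0 hv.1, ?_⟩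
    show b (h c0) (h v) = 0
    rw [F.b_H hh]; exact hv.2)
  have h2 := F.finrank_Rad N S ha0 hc0 hac0
  obtain ⟨w', hw', haw', hqw'⟩ := F.exists_nonsing S hc0 hac0
  obtain ⟨d1, -, -⟩ := F.dims N S ha0 hc0 hac0 hw' haw' hqw'
  rw [← hR0, h1, finrank_bot] at h2
  omega

end SFam

end Cfsg.Agent.LargeExtra.SiegFam
end

-- part: LargeExtra/SiegFam/CaseIII
section
/-!
# Siegel families, case (iii): totally singular parameter spaces; `V = U ⊕ U'` (helper73)
-/

set_option autoImplicit false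

namespace Cfsg.Agent.LargeExtra.SiegFam

open Module Lin

namespace SFam

variable {V : Type*} [AddCommGroup V] [Module (ZMod 2) V]
  {q : V → ZMod 2} {b : LinearMap.BilinForm (ZMod 2) V}
  {H : Subgroup (V ≃ₗ[ZMod 2] V)} {O : Set V} {D W : V → Submodule (ZMod 2) V}

/-- the parameter spaces are totally singular -/
def WT (q : V → ZMod 2) (O : Set V) (W : V → Submodule (ZMod 2) V) : Prop :=
  ∀ c ∈ O, ∀ v ∈ W c, q v = 0

theorem b_W (F : SFam q b H O D W) (T : WT q O W) {c : V} (hc : c ∈ O) {v w : V} (hv : v ∈ W c)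
    (hw : w ∈ W c) : b v w = 0 := F.b_ts (T c hc) hv hw

theorem dim_eq (F : SFam q b H O D W) (T : WT q O W) {c : V} (hc : c ∈ O) :
    2 * finrank (ZMod 2) (D c) = finrank (ZMod 2) V ∧ 2 * finrank (ZMod 2) (W c) = finrank (ZMod 2) V := by
  have h1 := F.two_mul_D hc
  have h2 := F.alt.two_mul_le fun _ hv _ hw => F.b_W T hc hv hw
  have h3 := F.dim c hc
  omega

theorem mem_W_of_perp (F : SFam q b H O D W) (T : WT q O W) {c : V} (hc : c ∈ O) {v : V}
    (hv : ∀ w ∈ W c, b w v = 0) : v ∈ W c :=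
  F.alt.mem_of_perp (fun _ hv _ hw => F.b_W T hc hv hw) (F.dim_eq T hc).2.ge hv

theorem mem_D_of_perp (F : SFam q b H O D W) (T : WT q O W) {c : V} (hc : c ∈ O) {v : V}
    (hv : ∀ w ∈ D c, b w v = 0) : v ∈ D c :=
  F.alt.mem_of_perp (fun _ hv _ hw => F.b_D hc hv hw) (F.dim_eq T hc).1.ge hv

theorem D_inf_W (F : SFam q b H O D W) (T : WT q O W) {c : V} (hc : c ∈ O) {v : V} (hD : v ∈ D c)
    (hW : v ∈ W c) : v = 0 ∨ v = c := F.cap c hc v hD fun _ hw => F.b_W T hc hW hw

/-- the map `n` -/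
theorem move (F : SFam q b H O D W) (T : WT q O W) {a c w w' : V} (ha : a ∈ O) (hc : c ∈ O)
    (hac : b a c = 1) (hw : w ∈ W a) (hcw : b c w = 0) (hw' : w' ∈ W c) (haw' : b a w' = 0)
    (hww' : b w w' = 1) :
    ∃ n ∈ H, n a = w' ∧ n w' = a ∧ n c = w ∧ n w = c ∧
      ∀ x, b a x = 0 → b c x = 0 → b w x = 0 → b w' x = 0 → n x = x := by
  obtain ⟨h1, hh1, e1⟩ := F.siegel a ha w hw
  obtain ⟨h2, hh2, e2⟩ := F.siegel c hc w' hw'
  have haw := F.perp_W a ha w hw
  have hcw' := F.perp_W c hc w' hw'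
  have hqw := T a ha w hw
  have hqw' := T c hc w' hw'
  have hca : b c a = 1 := by rw [F.comm]; exact hac
  have hw'w : b w' w = 1 := by rw [F.comm]; exact hww'
  have hwa : b w a = 0 := by rw [F.comm]; exact haw
  have hwc : b w c = 0 := by rw [F.comm]; exact hcw
  have hw'a : b w' a = 0 := by rw [F.comm]; exact haw'
  have hw'c : b w' c = 0 := by rw [F.comm]; exact hcw'
  have h1a : h1 a = a := by rw [e1]; exact sg_fix (F.self a) hwa
  have h1w : h1 w = w := by rw [e1]; exact sg_fix haw (F.self w)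
  have h1w' : h1 w' = w' + a := by rw [e1, sg_perp haw', hww', one_smul]
  have h1c : h1 c = c + w := by
    rw [e1, sg_one hac, hwc, zero_smul, add_zero, hqw, zero_smul, add_zero]
  have h2c : h2 c = c := by rw [e2]; exact sg_fix (F.self c) hw'c
  have h2w' : h2 w' = w' := by rw [e2]; exact sg_fix hcw' (F.self w')
  have h2w : h2 w = w + c := by rw [e2, sg_perp hcw, hw'w, one_smul]
  have h2a : h2 a = a + w' := by
    rw [e2, sg_one hca, hw'a, zero_smul, add_zero, hqw', zero_smul, add_zero]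
  refine ⟨h1 * h2 * h1, H.mul_mem (H.mul_mem hh1 hh2) hh1, ?_, ?_, ?_, ?_, ?_⟩
  · show h1 (h2 (h1 a)) = w'
    rw [h1a, h2a, map_add, h1a, h1w']
    calc a + (w' + a) = w' + (a + a) := by abel
      _ = w' := by rw [add_self, add_zero]
  · show h1 (h2 (h1 w')) = a
    rw [h1w', map_add, h2w', h2a]
    have : w' + (a + w') = a := by
      calc w' + (a + w') = a + (w' + w') := by abel
        _ = a := by rw [add_self, add_zero]
    rw [this, h1a]
  · show h1 (h2 (h1 c)) = w
    rw [h1c, map_add, h2c, h2w]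
    have : c + (w + c) = w := by
      calc c + (w + c) = w + (c + c) := by abel
        _ = w := by rw [add_self, add_zero]
    rw [this, h1w]
  · show h1 (h2 (h1 w)) = c
    rw [h1w, h2w, map_add, h1w, h1c]
    calc w + (c + w) = c + (w + w) := by abel
      _ = c := by rw [add_self, add_zero]
  · intro x hax hcx hwx hw'x
    show h1 (h2 (h1 x)) = x
    have h1x : h1 x = x := by rw [e1]; exact sg_fix hax hwx
    have h2x : h2 x = x := by rw [e2]; exact sg_fix hcx hw'x
    rw [h1x, h2x, h1x]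

/-- a point `e ∈ O` fixed by all Siegel maps with centre `c` (`e ∈ W c`) and `c ∉ D e`:
`D e ∩ c^⊥ ≤ W c` -/
theorem D_inf_le (F : SFam q b H O D W) (T : WT q O W) {c e : V} (hc : c ∈ O) (he : e ∈ O)
    (hec : e ∈ W c) (hcD : c ∉ D e) {y : V} (hy : y ∈ D e) (hcy : b c y = 0) : y ∈ W c := by
  apply F.mem_W_of_perp T hc
  intro u hu
  rcases zm (b u y) with h | h
  · exact h
  · exfalso
    have h1 := F.sg_mem_D hc hu he hy
    rw [sg_fix (F.perp_W c hc e hec) (F.b_W T hc hu hec), sg_perp hcy, h, one_smul] at h1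
    have h2 := (D e).add_mem hy h1
    rw [← add_assoc, add_self, zero_add] at h2
    exact hcD h2

/-- (★): for `w ∈ W a ∩ c^⊥`, `w ∉ W c`: every `u ∈ W c`, `u ⟂ a, w`, has `u ∈ D a` or `u + w ∈ D a` -/
theorem star (F : SFam q b H O D W) (T : WT q O W) {a c w : V} (ha : a ∈ O) (hc : c ∈ O)
    (hac : b a c = 1) (hw : w ∈ W a) (hcw : b c w = 0) (hwc : w ∉ W c) {u : V} (hu : u ∈ W c)
    (hau : b a u = 0) (hwu : b w u = 0) : u ∈ D a ∨ u + w ∈ D a := by
  have hca : b c a = 1 := by rw [F.comm]; exact hac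
  -- `w'`
  obtain ⟨w', hw', haw', hww'⟩ : ∃ w' ∈ W c, b a w' = 0 ∧ b w w' = 1 := by
    obtain ⟨w', hw', hww'⟩ : ∃ w' ∈ W c, b w w' = 1 := by
      by_contra hcon
      push Not at hcon
      apply hwc
      apply F.mem_W_of_perp T hc
      intro x hx
      rcases zm (b w x) with h | h
      · rw [F.comm]; exact h
      · exact absurd h (hcon x hx)
    rcases zm (b a w') with h | h
    · exact ⟨w', hw', h, hww'⟩
    · refine ⟨w' + c, (W c).add_mem hw' (F.self_W c hc), ?_, ?_⟩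
      · rw [map_add, h, hac]; decide
      · rw [map_add, hww', F.comm w c, hcw, add_zero]
  obtain ⟨n, hn, na, nw', nc, nw, nx⟩ := F.move T ha hc hac hw hcw hw' haw' hww'
  have hw'O : w' ∈ O := by rw [← na]; exact F.stable n hn a ha
  have hcD : c ∉ D w' := by
    intro h
    rw [← nw, ← na, F.mem_D_iff hn ha] at h
    rcases F.D_inf_W T ha h hw with h1 | h1
    · rw [h1, map_zero, LinearMap.zero_apply] at hww'
      exact absurd hww' (by decide)
    · rw [h1, hca] at hcw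
      exact absurd hcw (by decide)
  have h1 : (D w' ⊓ pp b c) ⊔ Submodule.span (ZMod 2) {c} ≤ W c := by
    refine sup_le (fun y hy => F.D_inf_le T hc hw'O hw' hcD hy.1 hy.2) ?_
    rw [Submodule.span_singleton_le_iff_mem]; exact F.self_W c hc
  have hcD' : c ∉ D w' ⊓ pp b c := fun h => hcD h.1
  have d1 := F.alt.finrank_sup_one hcD'
  have d2 := F.alt.finrank_inf_pp (D w') c
  have d3 := (F.dim_eq T hc).2
  have d4 := (F.dim_eq T hw'O).1
  have h2 := F.alt.eq_of_le h1 (by omega)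
  rw [← h2] at hu
  have hw'u : b w' u = 0 := by
    rw [h2] at hu
    exact F.b_W T hc hw' hu
  have hcu : b c u = 0 := by
    rw [h2] at hu
    exact F.perp_W c hc u hu
  have hnu : n u = u := nx u hau hcu hwu hw'u
  rcases Alt.mem_sup_one.1 hu with h3 | h3
  · left
    have h4 := F.D_map n hn w' hw'O u h3.1
    rwa [hnu, nw'] at h4
  · right
    have h4 := F.D_map n hn w' hw'O (u + c) h3.1
    rwa [map_add, hnu, nw', nc] at h4

/-- `W c ∩ a^⊥ ≤ W a` is impossible -/
theorem not_le (F : SFam q b H O D W) (T : WT q O W) (h8 : 8 ≤ finrank (ZMod 2) V) {a c : V}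
    (ha : a ∈ O) (hc : c ∈ O) (hac : b a c = 1) (hle : ∀ x ∈ W c, b a x = 0 → x ∈ W a) : False := by
  have hca : b c a = 1 := by rw [F.comm]; exact hac
  have d1 := (F.dim_eq T hc).2
  obtain ⟨w', hw', hw'0, haw'⟩ := F.alt.exists_mem_pp (S := W c) (by omega) a
  have hw'a := hle w' hw' haw'
  have hcw' := F.perp_W c hc w' hw'
  have hqw' := T c hc w' hw'
  have hw'a' : b w' a = 0 := by rw [F.comm]; exact haw'
  have hea : sg q b c w' a = a + w' := by
    rw [sg_one hca, hw'a', zero_smul, add_zero, hqw', zero_smul, add_zero]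
  have heO : a + w' ∈ O := by rw [← hea]; exact F.sg_mem hc hw' ha
  have hew : sg q b c w' (a + w') = a := by
    have e1 : b c (a + w') = 1 := by rw [map_add, hca, hcw', add_zero]
    rw [sg_one e1, map_add, hw'a', F.self, add_zero, zero_smul, add_zero, hqw', zero_smul,
      add_zero, add_add']
  have heW : a + w' ∈ W a := (W a).add_mem (F.self_W a ha) hw'a
  have haD : a ∉ D (a + w') := by
    intro h
    have h1 := F.sg_mem_D hc hw' heO h
    rw [hea, hew] at h1
    have h2 := (D a).add_mem (F.self_D a ha) h1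
    rw [← add_assoc, add_self, zero_add] at h2
    rcases F.D_inf_W T ha h2 hw'a with h3 | h3
    · exact hw'0 h3
    · rw [h3, hca] at hcw'
      exact absurd hcw' (by decide)
  have h1 : D (a + w') ⊓ pp b a ≤ Submodule.span (ZMod 2) {a + w'} := by
    rintro y ⟨hy, hay⟩
    have h2 : y ∈ W a := F.D_inf_le T ha heO heW haD hy hay
    -- `y ∈ W (a + w')`
    have h3 := F.sg_mem_W hc hw' ha h2
    have h4 := F.sg_mem_W hc hw' ha hw'a
    have hw'y : b w' y = 0 := F.b_W T ha hw'a h2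
    rw [sg_fix hcw' (F.self w'), hea] at h4
    rw [hea, sg] at h3
    simp only [hw'y, hqw', zero_mul, zero_smul, add_zero] at h3
    have h5 : y ∈ W (a + w') := by
      have := (W (a + w')).add_mem h3 ((W (a + w')).smul_mem (b c y) h4)
      rwa [add_add'] at this
    rw [mem_span_one]
    exact F.D_inf_W T heO hy h5
  have d2 := F.alt.finrank_le_of_le h1
  rw [F.alt.finrank_span_one (F.zero _ heO)] at d2
  have d3 := F.alt.finrank_inf_pp (D (a + w')) a
  have d4 := (F.dim_eq T heO).1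
  omega

/-- `W a ∩ W c = 0` for a nonperpendicular pair -/
theorem W_inf_W (F : SFam q b H O D W) (T : WT q O W) (h8 : 8 ≤ finrank (ZMod 2) V) {a c : V}
    (ha : a ∈ O) (hc : c ∈ O) (hac : b a c = 1) {x : V} (hxa : x ∈ W a) (hxc : x ∈ W c) : x = 0 := by
  have hca : b c a = 1 := by rw [F.comm]; exact hac
  obtain ⟨w, hw, hcw, hwc⟩ : ∃ w ∈ W a, b c w = 0 ∧ w ∉ W c := by
    by_contra hcon
    push Not at hcon
    exact F.not_le T h8 hc ha hca hcon
  have hax := F.perp_W a ha x hxa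
  have hcx := F.perp_W c hc x hxc
  rcases F.star T ha hc hac hw hcw hwc hxc hax (F.b_W T ha hw hxa) with h | h
  · rcases F.D_inf_W T ha h hxa with h1 | h1
    · exact h1
    · rw [h1, hca] at hcx
      exact absurd hcx (by decide)
  · exfalso
    rcases F.D_inf_W T ha h ((W a).add_mem hxa hw) with h1 | h1
    · apply hwc
      rw [← eq_of_add h1]; exact hxc
    · have h2 : b c (x + w) = 0 := by rw [map_add, hcx, hcw, add_zero]
      rw [h1, hca] at h2
      exact absurd h2 (by decide)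

/-- `W c ∩ a^⊥ ≤ D a` -/
theorem W_le_D (F : SFam q b H O D W) (T : WT q O W) (h8 : 8 ≤ finrank (ZMod 2) V) {a c : V}
    (ha : a ∈ O) (hc : c ∈ O) (hac : b a c = 1) {x : V} (hx : x ∈ W c) (hax : b a x = 0) :
    x ∈ D a := by
  have hca : b c a = 1 := by rw [F.comm]; exact hac
  by_contra hxD
  have key : ∀ w ∈ W a, w ≠ 0 → b c w = 0 → b w x = 0 → x + w ∈ D a := by
    intro w hw hw0 hcw hwx
    have hwc : w ∉ W c := fun h => hw0 (F.W_inf_W T h8 ha hc hac hw h)
    rcases F.star T ha hc hac hw hcw hwc hx hax hwx with h | h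
    · exact absurd h hxD
    · exact h
  have d1 := (F.dim_eq T ha).2
  have d2 := F.finrank_Wc ha hca
  have d3 := F.alt.finrank_inf_pp (W a ⊓ pp b c) x
  obtain ⟨w1, hw1, w2, hw2, h10, h20, h12⟩ :=
    F.alt.exists_two (S := (W a ⊓ pp b c) ⊓ pp b x) (by omega)
  have e1 := key w1 hw1.1.1 h10 hw1.1.2 (by rw [F.comm]; exact hw1.2)
  have e2 := key w2 hw2.1.1 h20 hw2.1.2 (by rw [F.comm]; exact hw2.2)
  have e3 := (D a).add_mem e1 e2
  have e4 : x + w1 + (x + w2) = w1 + w2 := by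
    calc x + w1 + (x + w2) = w1 + w2 + (x + x) := by abel
      _ = w1 + w2 := by rw [add_self, add_zero]
  rw [e4] at e3
  rcases F.D_inf_W T ha e3 ((W a).add_mem hw1.1.1 hw2.1.1) with h | h
  · exact h12 (eq_of_add h)
  · have h2 : b c (w1 + w2) = 0 := by
      rw [map_add, mem_pp.1 hw1.1.2, mem_pp.1 hw2.1.2, add_zero]
    rw [h, hca] at h2
    exact absurd h2 (by decide)

/-- (★★): `D a ∩ c^⊥ = W c ∩ a^⊥` -/
theorem D_le_W (F : SFam q b H O D W) (T : WT q O W) (h8 : 8 ≤ finrank (ZMod 2) V) {a c : V}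
    (ha : a ∈ O) (hc : c ∈ O) (hac : b a c = 1) {x : V} (hx : x ∈ D a) (hcx : b c x = 0) :
    x ∈ W c := by
  have hca : b c a = 1 := by rw [F.comm]; exact hac
  have h1 : W c ⊓ pp b a ≤ D a ⊓ pp b c := fun v hv =>
    ⟨F.W_le_D T h8 ha hc hac hv.1 hv.2, F.perp_W c hc v hv.1⟩
  have d1 := F.finrank_T ha hca
  have d2 := F.finrank_Wc hc hac
  have d3 := (F.dim_eq T ha).1
  have d4 := (F.dim_eq T hc).2
  have h2 := F.alt.eq_of_le h1 (by omega)
  have h3 : x ∈ D a ⊓ pp b c := ⟨hx, hcx⟩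
  rw [← h2] at h3
  exact h3.1

theorem D_inf_D (F : SFam q b H O D W) (T : WT q O W) (h8 : 8 ≤ finrank (ZMod 2) V) {a c : V}
    (ha : a ∈ O) (hc : c ∈ O) (hac : b a c = 1) {v : V} (hva : v ∈ D a) (hvc : v ∈ D c) : v = 0 := by
  have hca : b c a = 1 := by rw [F.comm]; exact hac
  have h1 := F.D_le_W T h8 ha hc hac hva (F.perp_D hc hvc)
  rcases F.D_inf_W T hc hvc h1 with h | h
  · exact h
  · have h2 := F.perp_D ha hva
    rw [h, hac] at h2
    exact absurd h2 (by decide)

/-- a submodule equality from an inclusion under `h ∈ H` -/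
theorem D_eq_of_map (F : SFam q b H O D W) {a : V} (ha : a ∈ O) {n : V ≃ₗ[ZMod 2] V} (hn : n ∈ H)
    (h : ∀ y ∈ D a, n y ∈ D a) : D (n a) = D a := by
  have hle : D (n a) ≤ D a := by
    have h1 : (D a).map (n : V →ₗ[ZMod 2] V) ≤ D a := by
      rintro _ ⟨y, hy, rfl⟩
      exact h y hy
    intro v hv
    have h2 : n⁻¹ v ∈ D a := by rw [← F.mem_D_iff hn ha, inv_apply]; exact hv
    have h3 := h _ h2
    rwa [inv_apply] at h3
  exact F.alt.eq_of_le hle (F.finrank_D ha (F.stable n hn a ha)).le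

/-- every nonzero vector `v` of `D a` is in `O` with `D v = D a` -/
theorem D_const (F : SFam q b H O D W) (T : WT q O W) (h8 : 8 ≤ finrank (ZMod 2) V) {a c : V}
    (ha : a ∈ O) (hc : c ∈ O) (hac : b a c = 1) {v : V} (hv : v ∈ D a) (hv0 : v ≠ 0) :
    v ∈ O ∧ D v = D a := by
  have hca : b c a = 1 := by rw [F.comm]; exact hac
  rcases zm (b c v) with h | h
  · -- `v = w'` is the image of `a` under a map `n`
    have hvW := F.D_le_W T h8 ha hc hac hv h
    have hav := F.perp_D ha hv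
    obtain ⟨w, hw, hcw, hwv⟩ : ∃ w ∈ W a, b c w = 0 ∧ b w v = 1 := by
      have hvWa : v ∉ W a := fun h1 => hv0 (F.W_inf_W T h8 ha hc hac h1 hvW)
      obtain ⟨w, hw, hwv⟩ : ∃ w ∈ W a, b w v = 1 := by
        by_contra hcon
        push Not at hcon
        apply hvWa
        apply F.mem_W_of_perp T ha
        intro x hx
        rcases zm (b x v) with h1 | h1
        · exact h1
        · exact absurd h1 (hcon x hx)
      rcases zm (b c w) with h1 | h1
      · exact ⟨w, hw, h1, hwv⟩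
      · refine ⟨w + a, (W a).add_mem hw (F.self_W a ha), ?_, ?_⟩
        · rw [map_add, h1, hca]; decide
        · rw [map_add, LinearMap.add_apply, hwv, hav, add_zero]
    obtain ⟨n, hn, na, nw', nc, nw, nx⟩ := F.move T ha hc hac hw hcw hvW hav hwv
    have key : ∀ y ∈ D a, n y ∈ D a := by
      -- first for `y ⟂ c`
      have k1 : ∀ y ∈ D a, b c y = 0 → n y ∈ D a := by
        intro y hy hcy
        have hyW := F.D_le_W T h8 ha hc hac hy hcy
        have hay := F.perp_D ha hy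
        have hvy : b v y = 0 := F.b_W T hc hvW hyW
        rcases zm (b w y) with h1 | h1
        · rw [nx y hay hcy h1 hvy]; exact hy
        · have h2 : n (y + v) = y + v := nx (y + v) (by rw [map_add, hay, hav, add_zero])
            (by rw [map_add, hcy, h, add_zero]) (by rw [map_add, h1, hwv]; decide)
            (by rw [map_add, hvy, F.self, add_zero])
          have h3 : n y = y + v + a := by
            rw [map_add, nw'] at h2
            rw [← h2, add_add']
          rw [h3]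
          exact (D a).add_mem ((D a).add_mem hy hv) (F.self_D a ha)
      intro y hy
      rcases zm (b c y) with h1 | h1
      · exact k1 y hy h1
      · have h2 := k1 (y + a) ((D a).add_mem hy (F.self_D a ha)) (by rw [map_add, h1, hca]; decide)
        rw [map_add, na] at h2
        have h3 := (D a).add_mem h2 hv
        rwa [add_add'] at h3
    have h1 := F.D_eq_of_map ha hn key
    rw [na] at h1
    exact ⟨by rw [← na]; exact F.stable n hn a ha, h1⟩
  · -- `v = a + u`, `u ∈ W c ∩ a^⊥`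
    have huD : v + a ∈ D a := (D a).add_mem hv (F.self_D a ha)
    have hcu : b c (v + a) = 0 := by rw [map_add, h, hca]; decide
    have huW := F.D_le_W T h8 ha hc hac huD hcu
    have hau := F.perp_D ha huD
    obtain ⟨n, hn, en⟩ := F.siegel c hc _ huW
    have hqu := T c hc _ huW
    have hua : b (v + a) a = 0 := by rw [F.comm]; exact hau
    have na : n a = v := by
      rw [en, sg_one hca, hua, zero_smul, add_zero, hqu, zero_smul, add_zero]
      calc a + (v + a) = v + (a + a) := by abel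
        _ = v := by rw [add_self, add_zero]
    have key : ∀ y ∈ D a, n y ∈ D a := by
      intro y hy
      rcases zm (b c y) with h1 | h1
      · have hyW := F.D_le_W T h8 ha hc hac hy h1
        rw [en, sg_fix h1 (F.b_W T hc huW hyW)]
        exact hy
      · have hyW := F.D_le_W T h8 ha hc hac ((D a).add_mem hy (F.self_D a ha))
          (by rw [map_add, h1, hca]; decide)
        have h2 : b (v + a) y = 0 := by
          have := F.b_W T hc huW hyW
          rwa [map_add, hua, add_zero] at this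
        rw [en, sg_one h1, h2, zero_smul, add_zero, hqu, zero_smul, add_zero]
        exact (D a).add_mem hy huD
    have h1 := F.D_eq_of_map ha hn key
    rw [na] at h1
    exact ⟨by rw [← na]; exact F.stable n hn a ha, h1⟩

/-- the orbit is the set of nonzero vectors of `D a ∪ D c` -/
theorem mem_or (F : SFam q b H O D W) (T : WT q O W) (h8 : 8 ≤ finrank (ZMod 2) V) {a c : V}
    (ha : a ∈ O) (hc : c ∈ O) (hac : b a c = 1) {e : V} (he : e ∈ O) : e ∈ D a ∨ e ∈ D c := by
  have hca : b c a = 1 := by rw [F.comm]; exact hac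
  by_contra hcon
  push Not at hcon
  have key : ∀ x y : V, x ∈ O → y ∈ O → b x y = 1 → e ∉ D x → D x ⊓ pp b e ≤ W e := by
    intro x y hx hy hxy hex
    obtain ⟨x', hx', hx'e⟩ : ∃ x' ∈ D x, b x' e = 1 := by
      by_contra hcon
      push Not at hcon
      apply hex
      apply F.mem_D_of_perp T hx
      intro z hz
      rcases zm (b z e) with h1 | h1
      · exact h1
      · exact absurd h1 (hcon z hz)
    have hx'0 : x' ≠ 0 := by
      rintro rfl
      rw [map_zero, LinearMap.zero_apply] at hx'e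
      exact absurd hx'e (by decide)
    obtain ⟨h1, h2⟩ := F.D_const T h8 hx hy hxy hx' hx'0
    rintro z ⟨hz, hez⟩
    rw [← h2] at hz
    exact F.D_le_W T h8 h1 he hx'e hz hez
  have h1 := key a c ha hc hac hcon.1
  have h2 := key c a hc ha hca hcon.2
  have h3 : (D a ⊓ pp b e) ⊓ (D c ⊓ pp b e) = ⊥ := by
    rw [eq_bot_iff]
    rintro v ⟨hv1, hv2⟩
    rw [Submodule.mem_bot]
    exact F.D_inf_D T h8 ha hc hac hv1.1 hv2.1
  have h4 := F.alt.finrank_sup_inf (D a ⊓ pp b e) (D c ⊓ pp b e)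
  rw [h3, finrank_bot, add_zero] at h4
  have h5 := F.alt.finrank_le_of_le (sup_le h1 h2)
  have d1 := F.alt.finrank_inf_pp (D a) e
  have d2 := F.alt.finrank_inf_pp (D c) e
  have d3 := (F.dim_eq T ha).1
  have d4 := (F.dim_eq T hc).1
  have d5 := (F.dim_eq T he).2
  omega

/-- every `h ∈ H` fixes or swaps `D a` and `D c` -/
theorem keep_or_flip (F : SFam q b H O D W) (T : WT q O W) (h8 : 8 ≤ finrank (ZMod 2) V) {a c : V}
    (ha : a ∈ O) (hc : c ∈ O) (hac : b a c = 1) {h : V ≃ₗ[ZMod 2] V} (hh : h ∈ H) :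
    ((∀ v ∈ D a, h v ∈ D a) ∧ ∀ v ∈ D c, h v ∈ D c) ∨ ((∀ v ∈ D a, h v ∈ D c) ∧ ∀ v ∈ D c, h v ∈ D a) := by
  have hca : b c a = 1 := by rw [F.comm]; exact hac
  have hha := F.stable h hh a ha
  have hhc := F.stable h hh c hc
  have hhac : b (h a) (h c) = 1 := by rw [F.b_H hh]; exact hac
  have ka : ∀ v ∈ D a, h v ∈ D (h a) := F.D_map h hh a ha
  have kc : ∀ v ∈ D c, h v ∈ D (h c) := F.D_map h hh c hc
  rcases F.mem_or T h8 ha hc hac hha with h1 | h1
  · left
    have e1 := (F.D_const T h8 ha hc hac h1 (F.zero _ hha)).2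
    rcases F.mem_or T h8 ha hc hac hhc with h2 | h2
    · exfalso
      rw [F.b_D ha h1 h2] at hhac
      exact absurd hhac (by decide)
    · have e2 := (F.D_const T h8 hc ha hca h2 (F.zero _ hhc)).2
      rw [e1] at ka
      rw [e2] at kc
      exact ⟨ka, kc⟩
  · right
    have e1 := (F.D_const T h8 hc ha hca h1 (F.zero _ hha)).2
    rcases F.mem_or T h8 ha hc hac hhc with h2 | h2
    · have e2 := (F.D_const T h8 ha hc hac h2 (F.zero _ hhc)).2
      rw [e1] at ka
      rw [e2] at kc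
      exact ⟨ka, kc⟩
    · exfalso
      rw [F.b_D hc h1 h2] at hhac
      exact absurd hhac (by decide)

/-- all transvections of `D a` are induced: `sg v u ∈ H` for `v ∈ D a`, `u ∈ D c`, `b v u = 0`, `v ≠ 0` -/
theorem siegel_mem (F : SFam q b H O D W) (T : WT q O W) (h8 : 8 ≤ finrank (ZMod 2) V) {a c : V}
    (ha : a ∈ O) (hc : c ∈ O) (hac : b a c = 1) {v u : V} (hv : v ∈ D a) (hv0 : v ≠ 0) (hu : u ∈ D c)
    (hvu : b v u = 0) : ∃ h ∈ H, ∀ x, h x = sg q b v u x := by
  have hca : b c a = 1 := by rw [F.comm]; exact hac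
  obtain ⟨h1, h2⟩ := F.D_const T h8 ha hc hac hv hv0
  apply F.siegel v h1
  -- `u ∈ W v`
  obtain ⟨c', hc', hc'v⟩ : ∃ c' ∈ D c, b c' v = 1 := by
    by_contra hcon
    push Not at hcon
    apply hv0
    apply F.D_inf_D T h8 ha hc hac hv
    apply F.mem_D_of_perp T hc
    intro z hz
    rcases zm (b z v) with h3 | h3
    · exact h3
    · exact absurd h3 (hcon z hz)
  have hc'0 : c' ≠ 0 := by
    rintro rfl
    rw [map_zero, LinearMap.zero_apply] at hc'v
    exact absurd hc'v (by decide)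
  obtain ⟨h3, h4⟩ := F.D_const T h8 hc ha hca hc' hc'0
  rw [← h4] at hu
  exact F.D_le_W T h8 h3 h1 hc'v hu hvu

/-- **Main theorem**: `dim V ≥ 8`, `dim D ≥ 2`, no nonzero `H`-invariant totally singular subspace ⇒
`V = D a ⊕ D c`, `O = (D a)# ∪ (D c)#`, `H` permutes `{D a, D c}` and contains all `sg v u`. -/
theorem main (F : SFam q b H O D W) (h8 : 8 ≤ finrank (ZMod 2) V)
    (hirr : ∀ R : Submodule (ZMod 2) V, (∀ v ∈ R, q v = 0) → (∀ h ∈ H, ∀ v ∈ R, h v ∈ R) → R = ⊥)
    {a c : V} (ha : a ∈ O) (hc : c ∈ O) (hac : b a c = 1) (hd : 2 ≤ finrank (ZMod 2) (D a)) :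
    2 * finrank (ZMod 2) (D a) = finrank (ZMod 2) V ∧
    (∀ v ∈ D a, v ∈ D c → v = 0) ∧
    (∀ v, v ∈ O ↔ v ≠ 0 ∧ (v ∈ D a ∨ v ∈ D c)) ∧
    (∀ h ∈ H, ((∀ v ∈ D a, h v ∈ D a) ∧ ∀ v ∈ D c, h v ∈ D c) ∨
      ((∀ v ∈ D a, h v ∈ D c) ∧ ∀ v ∈ D c, h v ∈ D a)) ∧
    (∀ v ∈ D a, v ≠ 0 → ∀ u ∈ D c, b v u = 0 → ∃ h ∈ H, ∀ x, h x = sg q b v u x) ∧
    (∀ v ∈ D c, v ≠ 0 → ∀ u ∈ D a, b v u = 0 → ∃ h ∈ H, ∀ x, h x = sg q b v u x) := by
  have T : WT q O W := F.W_ts h8 hirr ha hc hac hd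
  have hca : b c a = 1 := by rw [F.comm]; exact hac
  refine ⟨(F.dim_eq T ha).1, fun v hv hv' => F.D_inf_D T h8 ha hc hac hv hv', fun v => ⟨fun hv =>
    ⟨F.zero v hv, F.mem_or T h8 ha hc hac hv⟩, ?_⟩, fun h hh => F.keep_or_flip T h8 ha hc hac hh,
    fun v hv hv0 u hu hvu => F.siegel_mem T h8 ha hc hac hv hv0 hu hvu,
    fun v hv hv0 u hu hvu => F.siegel_mem T h8 hc ha hca hv hv0 hu hvu⟩
  rintro ⟨hv0, hv | hv⟩
  · exact (F.D_const T h8 ha hc hac hv hv0).1
  · exact (F.D_const T h8 hc ha hca hv hv0).1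

end SFam

end Cfsg.Agent.LargeExtra.SiegFam
end

-- part: LargeExtra/SiegFam/Inst
section
/-!
# Siegel families of pairs; conclusion for `|V| ≥ 2⁸` (helper73)

`siegel_case`: `p : Pair Q z A a`, all elements of `p.X` Siegel, `dim V ≥ 8`, `|D̃| ≥ 4`, no nonzero
totally singular `H`-invariant subspace ⇒ `V = U ⊕ U'` with `U = D̃`, `U, U'` totally singular of dimension
`dim V / 2`, `H` permutes `{U, U'}`, some `h ∈ H` swaps them, and `H` contains all Siegel elements `sg v u`,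
`v ∈ U`, `u ∈ U'` and `v ∈ U'`, `u ∈ U`, `b v u = 0`.
-/

set_option autoImplicit false

namespace Cfsg.Agent.LargeExtra.SiegFam.Inst

open Module
open Cfsg.Agent.Co2Type.Quad Cfsg.Agent.LargeExtra.Base Cfsg.Agent.LargeExtra.TwoCentral
open Cfsg.Agent.LargeExtra.Siegel Cfsg.Agent.LargeExtra.SiegelOrbit Cfsg.Agent.LargeExtra.SixInst
open Cfsg.Agent.LargeExtra.SiegFam.Lin

variable {G : Type*} [Group G] {Q A : Subgroup G} {z a : G}

theorem alt [Finite Q] (h : Large Q z) : Alt h.b where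
  fin := inferInstance
  nondeg := fun _ hv => h.b_nondeg hv
  self := h.b_self
  even := Dickson.even_finrank h

/-- all elements of `X` are Siegel elements -/
def AllSg (p : Pair Q z A a) : Prop :=
  ∀ f ∈ p.X, ∃ (w : p.lz.V) (hw : p.lz.b p.va w = 0), f = Siegel.sg p.lz p.va w (q_va p) hw

theorem sg_eq (h : Large Q z) {c w : h.V} (hc : h.q c = 0) (hw : h.b c w = 0) (v : h.V) :
    Siegel.sg h c w hc hw v = SiegFam.sg h.q h.b c w v := by
  rw [sg_apply, SiegFam.sg, add_smul]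
  abel

theorem sFam [Finite G] (p : Pair Q z A a) (hS : AllSg p) :
    SFam p.lz.q p.lz.b p.H (orb p) (fam p p.D) (fam p (pW p)) where
  alt := alt p.lz
  q_add := p.lz.q_add'
  q_H := fun h hh v => H_le_O p hh v
  zero := by
    rintro _ ⟨f, hf, rfl⟩ h0
    exact p.va_ne (f.map_eq_zero_iff.1 h0)
  stable := by
    rintro h hh _ ⟨f, hf, rfl⟩
    exact ⟨h * f, p.H.mul_mem hh hf, rfl⟩
  trans := by
    rintro _ ⟨f, hf, rfl⟩ _ ⟨g, hg, rfl⟩
    refine ⟨g * f⁻¹, p.H.mul_mem hg (p.H.inv_mem hf), ?_⟩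
    show g (f⁻¹ (f p.va)) = g p.va
    rw [apply_inv]
  self_D := by
    rintro _ ⟨f, hf, rfl⟩
    exact (mem_fam p (inv_D p) hf).2 ⟨p.va, p.va_mem_D, rfl⟩
  q_D := by
    rintro _ ⟨f, hf, rfl⟩ v hv
    obtain ⟨s, hs, rfl⟩ := (mem_fam p (inv_D p) hf).1 hv
    rw [q_of_mem_O p.lz (H_le_O p hf)]
    exact p.q_D hs
  self_W := by
    rintro _ ⟨f, hf, rfl⟩
    exact (mem_fam p (inv_W p) hf).2 ⟨p.va, va_mem_pW p, rfl⟩
  perp_W := by
    rintro _ ⟨f, hf, rfl⟩ v hv
    obtain ⟨s, hs, rfl⟩ := (mem_fam p (inv_W p) hf).1 hv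
    rw [b_of_mem_O p.lz (H_le_O p hf)]
    exact hs.1
  D_map := fun h hh c hc v hv => fam_map p (inv_D p) hh hc hv
  W_map := fun h hh c hc v hv => fam_map p (inv_W p) hh hc hv
  siegel := by
    rintro _ ⟨f, hf, rfl⟩ w hw
    obtain ⟨s, hs, rfl⟩ := (mem_fam p (inv_W p) hf).1 hw
    refine ⟨f * Siegel.sg p.lz p.va s (q_va p) hs.1 * f⁻¹,
      p.H.mul_mem (p.H.mul_mem hf (p.X_le_H hs.2)) (p.H.inv_mem hf), fun v => ?_⟩
    rw [sg_conj p.lz (H_le_O p hf) (q_va p) hs.1
      (by rw [q_of_mem_O p.lz (H_le_O p hf)]; exact q_va p)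
      (by rw [b_of_mem_O p.lz (H_le_O p hf)]; exact hs.1), sg_eq]
  cap := by
    rintro _ ⟨f, hf, rfl⟩ v hv hw
    obtain ⟨s, hs, rfl⟩ := (mem_fam p (inv_D p) hf).1 hv
    have h1 : s = 0 ∨ s = p.va := by
      apply eq_of_mem_D_perp p hS hs
      intro w hw'
      have h2 := hw (f w) ((mem_fam p (inv_W p) hf).2 ⟨w, hw', rfl⟩)
      rw [b_of_mem_O p.lz (H_le_O p hf)] at h2
      rw [p.lz.b_comm]; exact h2
    rcases h1 with rfl | rfl
    · left; rw [map_zero]
    · right; rfl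
  dim := by
    rintro _ ⟨f, hf, rfl⟩
    have hfin := (alt p.lz).finDim
    rw [fam_eq p (inv_D p) hf, fam_eq p (inv_W p) hf, LinearEquiv.finrank_map_eq,
      LinearEquiv.finrank_map_eq]
    have h1 := card_pW p hS
    rw [Module.natCard_eq_pow_finrank (K := ZMod 2) (V := pW p),
      Module.natCard_eq_pow_finrank (K := ZMod 2) (V := p.D),
      Module.natCard_eq_pow_finrank (K := ZMod 2) (V := p.lz.V), ← pow_add, Nat.card_zmod] at h1
    have h2 := Nat.pow_right_injective (le_refl 2) h1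
    omega

/-- no nonzero totally singular `H`-invariant subspace -/
def Irr (p : Pair Q z A a) : Prop :=
  ∀ R : Submodule (ZMod 2) p.lz.V, (∀ v ∈ R, p.lz.q v = 0) → (∀ h ∈ p.H, ∀ v ∈ R, h v ∈ R) → R = ⊥

/-- some conjugate of `ã` is not perpendicular to `ã` -/
theorem exists_not_perp (p : Pair Q z A a) (hirr : Irr p) : ∃ f ∈ p.H, p.lz.b p.va (f p.va) = 1 := by
  by_contra hcon
  push Not at hcon
  have hperp : ∀ f ∈ p.H, p.lz.b p.va (f p.va) = 0 := by
    intro f hf
    rcases zmod_two (p.lz.b p.va (f p.va)) with h1 | h1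
    · exact h1
    · exact absurd h1 (hcon f hf)
  have hbb : ∀ f ∈ p.H, ∀ u ∈ U p, p.lz.b (f p.va) u = 0 := by
    intro f hf u hu
    rw [p.lz.b_comm]
    apply perp_U p _ u hu
    intro g hg
    rw [p.lz.b_comm, ← b_of_mem_O p.lz (H_le_O p (p.H.inv_mem hf)), SiegelOrbit.apply_inv]
    exact hperp (f⁻¹ * g) (p.H.mul_mem (p.H.inv_mem hf) hg)
  have hq : ∀ v ∈ U p, p.lz.q v = 0 := by
    intro v hv
    induction hv using Submodule.span_induction with
    | mem x hx =>
      obtain ⟨f, hf, rfl⟩ := hx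
      rw [q_of_mem_O p.lz (H_le_O p hf)]
      exact q_va p
    | zero => exact p.lz.q_zero
    | add x y hx hy ihx ihy =>
      rw [p.lz.q_add', ihx, ihy, perp_U p (fun f hf => hbb f hf y hy) x hx, add_zero, add_zero]
    | smul c x _ hx =>
      rcases zmod_two c with rfl | rfl
      · rw [zero_smul]; exact p.lz.q_zero
      · rw [one_smul]; exact hx
  have h1 := hirr (U p) hq fun h hh v hv => U_inv p hh hv
  have h2 := va_mem_U p
  rw [h1, Submodule.mem_bot] at h2
  exact p.va_ne h2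

/-- the conclusion in the Siegel case -/
structure Split (p : Pair Q z A a) (U U' : Submodule (ZMod 2) p.lz.V) : Prop where
  va_mem : p.va ∈ U
  D_eq : p.D = U
  q_U : ∀ v ∈ U, p.lz.q v = 0
  q_U' : ∀ v ∈ U', p.lz.q v = 0
  disj : ∀ v ∈ U, v ∈ U' → v = 0
  dim : 2 * finrank (ZMod 2) U = finrank (ZMod 2) p.lz.V
  dim' : 2 * finrank (ZMod 2) U' = finrank (ZMod 2) p.lz.V
  orbit : ∀ v, (∃ f ∈ p.H, f p.va = v) ↔ v ≠ 0 ∧ (v ∈ U ∨ v ∈ U')
  perm : ∀ h ∈ p.H, ((∀ v ∈ U, h v ∈ U) ∧ ∀ v ∈ U', h v ∈ U') ∨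
    ((∀ v ∈ U, h v ∈ U') ∧ ∀ v ∈ U', h v ∈ U)
  flip : ∃ h ∈ p.H, (∀ v ∈ U, h v ∈ U') ∧ ∀ v ∈ U', h v ∈ U
  siegel : ∀ v ∈ U, v ≠ 0 → ∀ u ∈ U', p.lz.b v u = 0 →
    ∃ h ∈ p.H, ∀ x, h x = SiegFam.sg p.lz.q p.lz.b v u x
  siegel' : ∀ v ∈ U', v ≠ 0 → ∀ u ∈ U, p.lz.b v u = 0 →
    ∃ h ∈ p.H, ∀ x, h x = SiegFam.sg p.lz.q p.lz.b v u x

/-- **the Siegel case**, `dim V ≥ 8` -/
theorem siegel_case [Finite G] (p : Pair Q z A a) (hS : AllSg p)
    (h8 : 8 ≤ finrank (ZMod 2) p.lz.V) (hirr : Irr p) (hd : 4 ≤ Nat.card p.D) :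
    ∃ U U' : Submodule (ZMod 2) p.lz.V, Split p U U' := by
  have F := sFam p hS
  have hfin := (alt p.lz).finDim
  obtain ⟨f, hf, hf1⟩ := exists_not_perp p hirr
  have ha : p.va ∈ orb p := va_mem_orb p
  have hc : f p.va ∈ orb p := ⟨f, hf, rfl⟩
  have eD : fam p p.D p.va = p.D := fam_va p (inv_D p)
  have hd' : 2 ≤ finrank (ZMod 2) (fam p p.D p.va) := by
    rw [eD]
    rw [Module.natCard_eq_pow_finrank (K := ZMod 2) (V := p.D), Nat.card_zmod] at hd
    by_contra hcon
    have h1 : finrank (ZMod 2) p.D ≤ 1 := by omega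
    have h2 : 2 ^ finrank (ZMod 2) p.D ≤ 2 ^ 1 := Nat.pow_le_pow_right (by norm_num) h1
    omega
  obtain ⟨h1, h2, h3, h4, h5, h6⟩ := F.main h8 hirr ha hc hf1 hd'
  have hdc := F.finrank_D ha hc
  refine ⟨fam p p.D p.va, fam p p.D (f p.va), ?_⟩
  refine ⟨F.self_D _ ha, eD.symm, F.q_D _ ha, F.q_D _ hc, h2, h1, by rw [← hdc]; exact h1,
    fun v => h3 v, h4, ?_, h5, h6⟩
  by_contra hcon
  have h7 : fam p p.D p.va = ⊥ := by
    apply hirr _ (F.q_D _ ha)
    intro h hh
    rcases h4 h hh with h8 | h8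
    · exact h8.1
    · exact absurd ⟨h, hh, h8⟩ hcon
  rw [h7, finrank_bot] at hd'
  omega

end Cfsg.Agent.LargeExtra.SiegFam.Inst
end

-- part: LargeExtra/Tri/Basic
section
/-!
# The alternating trilinear form of a pair (helper73)

`p : Pair Q z A a`, `ã = p.va`.
* `exists_delta`: for `b(ã, v) = 1` the map `f ↦ f v + v` is a bijection of `p.X` onto `ã^⊥ / D̃`.
* `cross`: if `f, g ∈ X` belong to `r, s ∈ ã^⊥` (`f v + v + r, g v + v + s ∈ D̃`) then
  `f s + s = g r + r` modulo `⟨ã⟩`; the trilinear form `b(t, f s + s)` is alternating in `r, s, t`.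
* `allSg`: `|D̃| < 16` ⇒ all elements of `X` are Siegel elements.
* `exists_frame`: if not, there are `r1, r2, r3` with `b(r1, f3 r2 + r2) = 1`.
-/

set_option autoImplicit false

namespace Cfsg.Agent.LargeExtra.Tri.Basic

open Cfsg.Agent.Co2Type.Quad Cfsg.Agent.LargeExtra.Base Cfsg.Agent.LargeExtra.TwoCentral
open Cfsg.Agent.LargeExtra.Siegel Cfsg.Agent.LargeExtra.SiegFam.Inst

variable {G : Type*} [Group G] {Q A : Subgroup G} {z a : G}

/-- (L0) `x ∈ C_A(z)`, `q ∈ Q ∖ C_G(a)` and `x^q ∈ A` imply `x ∈ Q`. -/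
theorem mem_of_conj_mem (p : Pair Q z A a) {x q : G} (hx : x ∈ A) (hq : q ∈ Q)
    (hqa : q * a ≠ a * q) (h : q * x * q⁻¹ ∈ A) : x ∈ Q := by
  obtain ⟨g, hg1, -, hgA, -⟩ := p.isConj
  obtain ⟨y, hy, hyz⟩ := exists_not_comm p.la p.z_mem p.lz.z_ne p.ne.symm
  -- `y z = z y a`
  have hq1 : q * a * q⁻¹ = a * z := by
    rcases p.lz.comm q hq a p.a_mem with h1 | h1
    · exact absurd h1 hqa
    · rw [h1, mul_assoc _ z, ← (p.lz.commz hq).inv_left.eq]; group
  have hy1 : y * z * y⁻¹ = a * z := by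
    rw [hyz, mul_assoc _ a, ← (p.la.commz hy).inv_left.eq, p.comm_za]; group
  have e : (q * g) * z * (q * g)⁻¹ = y * z * y⁻¹ := by
    rw [hy1, ← hq1, ← hg1]; group
  have h2 := map_eq_of_conj p.lz e
  have h3 : q * x * q⁻¹ ∈ Q.map (MulAut.conj (q * g)).toMonoidHom := by
    rw [hgA] at hx
    obtain ⟨x0, hx0, rfl⟩ := hx
    refine ⟨x0, hx0, ?_⟩
    show q * g * x0 * (q * g)⁻¹ = q * (g * x0 * g⁻¹) * q⁻¹
    group
  rw [h2] at h3
  obtain ⟨x1, hx1, hx1e⟩ := h3
  have hx1e' : y * x1 * y⁻¹ = q * x * q⁻¹ := hx1e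
  have hx1A : x1 ∈ A := by
    have : x1 = y⁻¹ * (q * x * q⁻¹) * y := by rw [← hx1e']; group
    rw [this]
    exact A.mul_mem (A.mul_mem (A.inv_mem hy) h) hy
  have h4 : q * x * q⁻¹ ∈ Q := by
    rw [← hx1e']
    rcases p.conj_D hx1A hy with h5 | h5
    · rw [h5]; exact hx1
    · rw [h5]; exact Q.mul_mem hx1 p.a_mem
  have : x = q⁻¹ * (q * x * q⁻¹) * q := by group
  rw [this]
  exact Q.mul_mem (Q.mul_mem (Q.inv_mem hq) h4) hq

/-- `f ∈ X`, `f v + v ∈ D̃` for some `v` with `b(ã, v) = 1` imply `f = 1` -/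
theorem eq_one_of_delta (p : Pair Q z A a) {f : p.lz.V ≃ₗ[ZMod 2] p.lz.V} (hf : f ∈ p.X)
    {v : p.lz.V} (hv : p.lz.b p.va v = 1) (h : f v + v ∈ p.D) : f = 1 := by
  obtain ⟨c, hc, rfl⟩ := p.mem_X.1 hf
  obtain ⟨q, rfl⟩ := p.lz.pr_surjective v
  have hqa : (q : G) * a ≠ a * q := by
    intro h1
    have := (p.lz.b_pr ⟨a, p.a_mem⟩ q).2 h1.symm
    rw [show p.lz.pr ⟨a, p.a_mem⟩ = p.va from rfl, hv] at this
    exact one_ne_zero this
  have h3 : p.lz.act c (p.lz.pr q) + p.lz.pr q = p.lz.pr (p.lz.conjQ c q * q⁻¹) := by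
    rw [p.lz.act_pr, p.lz.pr_mul, p.lz.pr_inv, p.lz.neg_eq]
  rw [h3, p.pr_mem_D] at h
  have h4 : (c : G) * q * (c : G)⁻¹ * (q : G)⁻¹ ∈ A := h
  have h5 : (q : G) * c * (q : G)⁻¹ ∈ A := by
    have : (q : G) * c * (q : G)⁻¹ = ((c : G)⁻¹ * ((c : G) * q * (c : G)⁻¹ * (q : G)⁻¹))⁻¹ := by group
    rw [this]
    exact A.inv_mem (A.mul_mem (A.inv_mem hc) h4)
  exact p.lz.act_mem c (mem_of_conj_mem p hc q.2 hqa h5)

theorem X_D_mem (p : Pair Q z A a) {f : p.lz.V ≃ₗ[ZMod 2] p.lz.V} (hf : f ∈ p.X) {d : p.lz.V}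
    (hd : d ∈ p.D) : f d ∈ p.D := by
  rcases p.X_D hf hd with h | h
  · rw [h]; exact hd
  · rw [h]; exact p.D.add_mem hd p.va_mem_D

theorem add_add_cancel' (h : Large Q z) (x y : h.V) : x + y + y = x := by
  rw [add_assoc, h.add_self, add_zero]

theorem b_add_left (h : Large Q z) (x y w : h.V) : h.b (x + y) w = h.b x w + h.b y w := by
  rw [map_add, LinearMap.add_apply]

/-- `b(ã, f v) = b(ã, v)` -/
theorem b_va_X (p : Pair Q z A a) {f : p.lz.V ≃ₗ[ZMod 2] p.lz.V} (hf : f ∈ p.X) (v : p.lz.V) :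
    p.lz.b p.va (f v) = p.lz.b p.va v := by
  nth_rewrite 1 [← p.X_va hf]
  exact b_of_mem_O p.lz (X_le_O p hf) _ _

theorem b_va_delta (p : Pair Q z A a) {f : p.lz.V ≃ₗ[ZMod 2] p.lz.V} (hf : f ∈ p.X) (v : p.lz.V) :
    p.lz.b p.va (f v + v) = 0 := by
  rw [map_add, b_va_X p hf, CharTwo.add_self_eq_zero]

/-- for `b(ã, v) = 1` every `s ∈ ã^⊥` is `f v + v` modulo `D̃` for some `f ∈ X` -/
theorem exists_delta [Finite G] (p : Pair Q z A a) {v : p.lz.V} (hv : p.lz.b p.va v = 1)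
    {s : p.lz.V} (hs : p.lz.b p.va s = 0) : ∃ f ∈ p.X, f v + v + s ∈ p.D := by
  classical
  have hfin : Finite (p.lz.V ≃ₗ[ZMod 2] p.lz.V) :=
    Finite.of_injective (fun g => (g : p.lz.V → p.lz.V)) DFunLike.coe_injective
  let F : p.X × p.D × ZMod 2 → p.lz.V := fun x =>
    ((x.1 : p.lz.V ≃ₗ[ZMod 2] p.lz.V) v + v) + (x.2.1 : p.lz.V) + x.2.2 • v
  have hF : Function.Injective F := by
    rintro ⟨⟨f, hf⟩, ⟨d, hd⟩, c⟩ ⟨⟨g, hg⟩, ⟨e, he⟩, c'⟩ h
    have h1 : (f v + v) + d + c • v = (g v + v) + e + c' • v := h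
    have hb : ∀ (f : p.lz.V ≃ₗ[ZMod 2] p.lz.V) (_ : f ∈ p.X) (d : p.lz.V) (_ : d ∈ p.D) (c : ZMod 2),
        p.lz.b p.va ((f v + v) + d + c • v) = c := by
      intro f hf d hd c
      rw [map_add, map_add, map_smul, b_va_delta p hf, b_va_D p hd, hv, smul_eq_mul, mul_one,
        zero_add, zero_add]
    have h2 : c = c' := by rw [← hb f hf d hd c, ← hb g hg e he c', h1]
    subst h2
    have h3 : f v + d = g v + e := by
      have := add_right_cancel h1
      rw [add_right_comm (f v), add_right_comm (g v)] at this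
      exact add_right_cancel this
    have h4 : (g⁻¹ * f) v + v ∈ p.D := by
      have h5 : f v = g v + (e + d) := by
        rw [← add_assoc, ← h3, add_add_cancel']
      have h6 : (g⁻¹ * f) v = v + g⁻¹ (e + d) := by
        show g⁻¹ (f v) = _
        rw [h5, map_add]
        congr 1
        exact g.symm_apply_apply v
      rw [h6, add_right_comm, p.lz.add_self, zero_add]
      exact X_D_mem p (p.X.inv_mem hg) (p.D.add_mem he hd)
    have h5 := eq_one_of_delta p (p.X.mul_mem (p.X.inv_mem hg) hf) hv h4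
    have h6 : f = g := (inv_mul_eq_one.1 h5).symm
    subst h6
    have h7 := add_left_cancel h3
    subst h7
    rfl
  have hb := hF.bijective_of_nat_card_le (by
    rw [Nat.card_prod, Nat.card_prod, Nat.card_zmod, ← p.card_X, mul_assoc])
  obtain ⟨⟨⟨f, hf⟩, ⟨d, hd⟩, c⟩, h1⟩ := hb.2 s
  have h2 : (f v + v) + d + c • v = s := h1
  have h3 : c = 0 := by
    have : p.lz.b p.va ((f v + v) + d + c • v) = c := by
      rw [map_add, map_add, map_smul, b_va_delta p hf, b_va_D p hd, hv, smul_eq_mul, mul_one,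
        zero_add, zero_add]
    rw [← this, h2, hs]
  refine ⟨f, hf, ?_⟩
  rw [h3, zero_smul, add_zero] at h2
  rw [← h2]
  have : f v + v + (f v + v + d) = d := by rw [← add_assoc, p.lz.add_self, zero_add]
  rw [this]
  exact hd

/-- `f` belongs to `s` -/
def Bel (p : Pair Q z A a) (v : p.lz.V) (f : p.lz.V ≃ₗ[ZMod 2] p.lz.V) (s : p.lz.V) : Prop :=
  f ∈ p.X ∧ f v + v + s ∈ p.D

theorem Bel.perp {p : Pair Q z A a} {v : p.lz.V} {f : p.lz.V ≃ₗ[ZMod 2] p.lz.V} {s : p.lz.V}
    (h : Bel p v f s) : p.lz.b p.va s = 0 := by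
  have h1 := b_va_D p h.2
  rw [map_add, b_va_delta p h.1, zero_add] at h1
  exact h1

theorem Bel.unique {p : Pair Q z A a} {v : p.lz.V} (hv : p.lz.b p.va v = 1)
    {f g : p.lz.V ≃ₗ[ZMod 2] p.lz.V} {s : p.lz.V} (hf : Bel p v f s) (hg : Bel p v g s) : f = g := by
  have h1 : f v + g v ∈ p.D := by
    have h2 := p.D.add_mem hf.2 hg.2
    have : f v + v + s + (g v + v + s) = f v + g v + ((v + v) + (s + s)) := by abel
    rw [this, p.lz.add_self, p.lz.add_self, add_zero, add_zero] at h2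
    exact h2
  have h4 : (g⁻¹ * f) v + v ∈ p.D := by
    have h6 : (g⁻¹ * f) v + v = g⁻¹ (f v + g v) := by
      rw [map_add]
      congr 1
      exact (g.symm_apply_apply v).symm
    rw [h6]
    exact X_D_mem p (p.X.inv_mem hg.1) h1
  have h5 := eq_one_of_delta p (p.X.mul_mem (p.X.inv_mem hg.1) hf.1) hv h4
  exact (inv_mul_eq_one.1 h5).symm

theorem Bel.mul {p : Pair Q z A a} {v : p.lz.V}
    {f g : p.lz.V ≃ₗ[ZMod 2] p.lz.V} {r s : p.lz.V} (hf : Bel p v f r) (hg : Bel p v g s) :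
    Bel p v (f * g) (r + s) := by
  refine ⟨p.X.mul_mem hf.1 hg.1, ?_⟩
  -- `f g v + v + r + s = f (g v + v + s) + (f v + v + r) + (f s + s)`
  have e : (f * g) v + v + (r + s) = f (g v + v + s) + (f v + v + r) + (f s + s) := by
    rw [map_add, map_add]
    show f (g v) + v + (r + s) = f (g v) + f v + f s + (f v + v + r) + (f s + s)
    have : f (g v) + f v + f s + (f v + v + r) + (f s + s) =
      f (g v) + v + (r + s) + ((f v + f v) + (f s + f s)) := by abel
    rw [this, p.lz.add_self, p.lz.add_self, add_zero, add_zero]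
  rw [e]
  exact p.D.add_mem (p.D.add_mem (X_D_mem p hf.1 hg.2) hf.2) (p.X_perp hf.1 hg.perp)

/-- symmetry of the cross product modulo `⟨ã⟩` -/
theorem Bel.cross {p : Pair Q z A a} {v : p.lz.V}
    {f g : p.lz.V ≃ₗ[ZMod 2] p.lz.V} {r s : p.lz.V} (hf : Bel p v f r) (hg : Bel p v g s) :
    ∃ c : ZMod 2, f s + s = g r + r + c • p.va := by
  have h1 : f (g v) = g (f v) := congrArg (fun x : p.lz.V ≃ₗ[ZMod 2] p.lz.V => x v)
    (p.X_comm hf.1 hg.1)
  have h2 := p.X_D hf.1 hg.2
  have h3 := p.X_D hg.1 hf.2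
  -- `f s = f (g v + v + (d))`
  have key : f s + s = g r + r + ((f (g v + v + s) + (g v + v + s)) +
      (g (f v + v + r) + (f v + v + r))) := by
    rw [map_add, map_add, map_add, map_add, h1]
    have : g r + r + (g (f v) + f v + f s + (g v + v + s) + (g (f v) + g v + g r + (f v + v + r))) =
      f s + s + ((g r + g r) + (r + r) + (g (f v) + g (f v)) + (f v + f v) + (g v + g v) +
        (v + v)) := by abel
    rw [this]
    simp only [p.lz.add_self, add_zero]
  have hc : ∀ (f : p.lz.V ≃ₗ[ZMod 2] p.lz.V) (d : p.lz.V), (f d = d ∨ f d = d + p.va) →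
      ∃ c : ZMod 2, f d + d = c • p.va := by
    rintro f d (h | h)
    · exact ⟨0, by rw [h, p.lz.add_self, zero_smul]⟩
    · exact ⟨1, by rw [h, add_right_comm, p.lz.add_self, zero_add, one_smul]⟩
  obtain ⟨c1, h4⟩ := hc f _ h2
  obtain ⟨c2, h5⟩ := hc g _ h3
  refine ⟨c1 + c2, ?_⟩
  rw [key, h4, h5, add_smul]

/-- `b(t, f s + s)` is symmetric in `t, s ∈ ã^⊥` -/
theorem b_swap (p : Pair Q z A a) {f : p.lz.V ≃ₗ[ZMod 2] p.lz.V} (hf : f ∈ p.X) {s t : p.lz.V}
    (hs : p.lz.b p.va s = 0) (ht : p.lz.b p.va t = 0) :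
    p.lz.b t (f s + s) = p.lz.b s (f t + t) := by
  have h3 : p.lz.b p.va (s + t) = 0 := by rw [map_add, hs, ht, add_zero]
  have h4 := b_delta p hf h3
  have h5 : f (s + t) + (s + t) = (f s + s) + (f t + t) := by rw [map_add]; abel
  rw [h5, b_four, b_delta p hf hs, b_delta p hf ht, zero_add, add_zero] at h4
  exact (CharTwo.add_eq_zero.1 h4).symm

/-- `b(t, f s + s)` is symmetric in `r, s` -/
theorem Bel.b_cross {p : Pair Q z A a} {v : p.lz.V}
    {f g : p.lz.V ≃ₗ[ZMod 2] p.lz.V} {r s t : p.lz.V} (hf : Bel p v f r) (hg : Bel p v g s)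
    (ht : p.lz.b p.va t = 0) : p.lz.b t (f s + s) = p.lz.b t (g r + r) := by
  obtain ⟨c, h⟩ := hf.cross hg
  rw [h, map_add, map_smul, p.lz.b_comm t p.va, ht, smul_zero, add_zero]

theorem Bel.b_self {p : Pair Q z A a} {v : p.lz.V}
    {f : p.lz.V ≃ₗ[ZMod 2] p.lz.V} {r s : p.lz.V} (hf : Bel p v f r)
    (hs : p.lz.b p.va s = 0) : p.lz.b r (f s + s) = 0 := by
  rw [b_swap p hf.1 hs hf.perp]
  have h1 := hf.b_cross hf hs
  -- `f r + r ∈ ⟨ã⟩`: `f (f v + v) = f v + v`
  have h2 := fix_delta p hf.1 v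
  have h3 : f r + r = f (f v + v + r) + (f v + v + r) := by
    rw [map_add, h2]
    have : f v + v + f r + (f v + v + r) = f r + r + ((f v + f v) + (v + v)) := by abel
    rw [this, p.lz.add_self, p.lz.add_self, add_zero, add_zero]
  rw [h3]
  rcases p.X_D hf.1 hf.2 with h4 | h4
  · rw [h4, p.lz.add_self, map_zero]
  · rw [h4, add_right_comm, p.lz.add_self, zero_add, p.lz.b_comm]; exact hs

/-- the frame -/
structure Frame (p : Pair Q z A a) (v r1 r2 r3 : p.lz.V)
    (f1 f2 f3 : p.lz.V ≃ₗ[ZMod 2] p.lz.V) : Prop where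
  hv : p.lz.b p.va v = 1
  bel1 : Bel p v f1 r1
  bel2 : Bel p v f2 r2
  bel3 : Bel p v f3 r3
  one : p.lz.b r1 (f3 r2 + r2) = 1

theorem exists_frame_of [Finite G] (p : Pair Q z A a) {v : p.lz.V} (hv : p.lz.b p.va v = 1)
    {f : p.lz.V ≃ₗ[ZMod 2] p.lz.V} (hf : f ∈ p.X) {r : p.lz.V} (hr : p.lz.b p.va r = 0)
    (h0 : f r + r ≠ 0) (ha : f r + r ≠ p.va) :
    ∃ r1 r2 r3 f1 f2 f3, Frame p v r1 r2 r3 f1 f2 f3 := by
  obtain ⟨t, ht, htg⟩ : ∃ t, p.lz.b p.va t = 0 ∧ p.lz.b (f r + r) t ≠ 0 := by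
    by_contra hcon
    push Not at hcon
    rcases eq_of_perp p.lz hcon with h3 | h3
    · exact h0 h3
    · exact ha h3
  obtain ⟨f1, h1, h1'⟩ := exists_delta p hv ht
  obtain ⟨f2, h2, h2'⟩ := exists_delta p hv hr
  refine ⟨t, r, f v + v, f1, f2, f, hv, ⟨h1, h1'⟩, ⟨h2, h2'⟩, ⟨hf, ?_⟩, ?_⟩
  · rw [p.lz.add_self]; exact p.D.zero_mem
  · rw [p.lz.b_comm]; exact zmod_two_ne htg

theorem exists_v (p : Pair Q z A a) : ∃ v, p.lz.b p.va v = 1 ∧ p.lz.q v = 0 := by
  obtain ⟨y, hy⟩ : ∃ y, p.lz.b p.va y ≠ 0 := by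
    by_contra hcon
    push Not at hcon
    exact p.va_ne (p.lz.b_nondeg hcon)
  have hy1 : p.lz.b p.va y = 1 := zmod_two_ne hy
  rcases zmod_two (p.lz.q y) with h | h
  · exact ⟨y, hy1, h⟩
  · refine ⟨y + p.va, ?_, ?_⟩
    · rw [map_add, hy1, p.lz.b_self, add_zero]
    · rw [p.lz.q_add', h, q_va, p.lz.b_comm, hy1]; decide

/-- either all elements of `X` are Siegel elements or there is a frame -/
theorem allSg_or_frame [Finite G] (p : Pair Q z A a) :
    AllSg p ∨ ∀ v, p.lz.b p.va v = 1 → ∃ r1 r2 r3 f1 f2 f3, Frame p v r1 r2 r3 f1 f2 f3 := by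
  by_cases hex : ∃ f ∈ p.X, ∃ r, p.lz.b p.va r = 0 ∧ f r + r ≠ 0 ∧ f r + r ≠ p.va
  · right
    intro v hv
    obtain ⟨f, hf, r, hr, h0, ha⟩ := hex
    exact exists_frame_of p hv hf hr h0 ha
  · left
    push Not at hex
    intro f hf
    apply eq_sg p.lz (q_va p) p.va_ne (X_le_O p hf) (p.X_va hf)
    intro v hv
    by_cases h0 : f v + v = 0
    · left
      calc f v = f v + v + v := by rw [add_assoc, p.lz.add_self, add_zero]
        _ = v := by rw [h0, zero_add]
    · right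
      calc f v = f v + v + v := by rw [add_assoc, p.lz.add_self, add_zero]
        _ = v + p.va := by rw [hex f hf v hv h0, add_comm]

namespace Frame

variable {p : Pair Q z A a} {v r1 r2 r3 : p.lz.V} {f1 f2 f3 : p.lz.V ≃ₗ[ZMod 2] p.lz.V}

/-- the table of the products `b(r_i, g_j)`, `g1 = f2 r3 + r3`, `g2 = f3 r1 + r1`, `g3 = f1 r2 + r2` -/
theorem table (F : Frame p v r1 r2 r3 f1 f2 f3) :
    p.lz.b r1 (f2 r3 + r3) = 1 ∧ p.lz.b r2 (f2 r3 + r3) = 0 ∧ p.lz.b r3 (f2 r3 + r3) = 0 ∧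
    p.lz.b r1 (f3 r1 + r1) = 0 ∧ p.lz.b r2 (f3 r1 + r1) = 1 ∧ p.lz.b r3 (f3 r1 + r1) = 0 ∧
    p.lz.b r1 (f1 r2 + r2) = 0 ∧ p.lz.b r2 (f1 r2 + r2) = 0 ∧ p.lz.b r3 (f1 r2 + r2) = 1 := by
  have h1 := F.bel1.perp
  have h2 := F.bel2.perp
  have h3 := F.bel3.perp
  refine ⟨?_, ?_, ?_, ?_, ?_, ?_, ?_, ?_, ?_⟩
  · rw [F.bel2.b_cross F.bel3 h1]; exact F.one
  · exact F.bel2.b_self h3
  · exact b_delta p F.bel2.1 h3
  · exact b_delta p F.bel3.1 h1
  · rw [b_swap p F.bel3.1 h1 h2]; exact F.one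
  · exact F.bel3.b_self h1
  · exact F.bel1.b_self h2
  · exact b_delta p F.bel1.1 h2
  · rw [b_swap p F.bel1.1 h2 h3, F.bel1.b_cross F.bel3 h2, b_swap p F.bel3.1 h1 h2]; exact F.one

end Frame

/-- **`|D̃| < 16` ⇒ Siegel case** -/
theorem allSg [Finite G] (p : Pair Q z A a) (hD : Nat.card p.D < 16) : AllSg p := by
  rcases allSg_or_frame p with h | h
  · exact h
  · exfalso
    obtain ⟨v, hv, -⟩ := exists_v p
    obtain ⟨r1, r2, r3, f1, f2, f3, F⟩ := h v hv
    obtain ⟨t1, t2, t3, t4, t5, t6, t7, t8, t9⟩ := F.table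
    have hg1 := p.X_perp F.bel2.1 F.bel3.perp
    have hg2 := p.X_perp F.bel3.1 F.bel1.perp
    have hg3 := p.X_perp F.bel1.1 F.bel2.perp
    have ha1 := F.bel1.perp
    have ha2 := F.bel2.perp
    have ha3 := F.bel3.perp
    rw [p.lz.b_comm] at ha1 ha2 ha3
    have hv' : p.lz.b v p.va = 1 := by rw [p.lz.b_comm]; exact hv
    generalize f2 r3 + r3 = g1 at *
    generalize f3 r1 + r1 = g2 at *
    generalize f1 r2 + r2 = g3 at *
    have hsurj : Function.Surjective (fun d : p.D =>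
        ((p.lz.b r1 (d : p.lz.V), p.lz.b r2 (d : p.lz.V), p.lz.b r3 (d : p.lz.V),
          p.lz.b v (d : p.lz.V)) : ZMod 2 × ZMod 2 × ZMod 2 × ZMod 2)) := by
      rintro ⟨c1, c2, c3, c4⟩
      refine ⟨⟨c1 • g1 + c2 • g2 + c3 • g3 +
        (c4 + c1 * p.lz.b v g1 + c2 * p.lz.b v g2 + c3 * p.lz.b v g3) • p.va,
        p.D.add_mem (p.D.add_mem (p.D.add_mem (p.D.smul_mem _ hg1) (p.D.smul_mem _ hg2))
          (p.D.smul_mem _ hg3)) (p.D.smul_mem _ p.va_mem_D)⟩, ?_⟩
      simp only [map_add, map_smul, t1, t2, t3, t4, t5, t6, t7, t8, t9, ha1, ha2, ha3, hv',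
        smul_eq_mul, mul_zero, mul_one, add_zero, zero_add, Prod.mk.injEq, true_and]
      have : ∀ a b c d : ZMod 2, a + b + c + (d + a + b + c) = d := by decide
      exact this _ _ _ _
    have h3 := Nat.card_le_card_of_surjective _ hsurj
    have h4 : Nat.card (ZMod 2 × ZMod 2 × ZMod 2 × ZMod 2) = 16 := by
      rw [Nat.card_prod, Nat.card_prod, Nat.card_prod, Nat.card_zmod]
    omega

end Cfsg.Agent.LargeExtra.Tri.Basic
end
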